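import Groth.Agent.H54.Catenary

set_option autoImplicit false
set_option linter.style.haveILetI false
universe u

namespace Groth.Agent.H14

open Groth.Agent.H54

/-- every maximal ideal of a finitely generated domain over a field has height `dim` -/
theorem height_of_isMaximal_of_finiteType_domain (k S : Type u) [Field k] [CommRing S] [IsDomain S]
    [Algebra k S] [Algebra.FiniteType k S] (m : Ideal S) [hm : m.IsMaximal] :
    (m.height : WithBot ℕ∞) = ringKrullDim S := by
  haveI : IsNoetherianRing S := Algebra.FiniteType.isNoetherianRing k S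
  have hfin : m.height ≠ ⊤ := Ideal.height_ne_top hm.ne_top
  obtain ⟨l, hl⟩ := ENat.ne_top_iff_exists.mp hfin
  let mm : PrimeSpectrum S := ⟨m, hm.isPrime⟩
  have hh : Order.height mm = l := by
    rw [← PrimeSpectrum.height_eq_orderHeight]; exact hl.symm
  obtain ⟨c, hclast, hclen⟩ := Order.exists_series_of_height_eq_coe mm hh
  have hlen' : (c.length : ℕ∞) = Order.height c.last := by rw [hclast, hh, hclen]
  have hidx := Order.height_eq_index_of_length_eq_height_last hlen'
  have hhead : c.head.asIdeal = ⊥ := by
    have h0 : Order.height c.head = 0 := by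
      have := hidx 0
      simpa [RelSeries.head] using this
    rw [Order.height_eq_zero] at h0
    have hbot : (⊥ : PrimeSpectrum S) ≤ c.head := bot_le
    have := h0 hbot
    have h2 : c.head = ⊥ := le_antisymm this hbot
    rw [h2]; rfl
  have hsat : ∀ i : Fin c.length, c i.castSucc ⋖ c i.succ := by
    intro i
    refine ⟨c.step i, ?_⟩
    intro q hq1 hq2
    have h1 := Order.height_add_one_le hq1
    have h2 := Order.height_add_one_le hq2
    rw [hidx] at h1 h2
    have h3 : ((i.castSucc : Fin (c.length + 1)) : ℕ∞) + 1 + 1 ≤ ((i.succ : Fin (c.length + 1)) : ℕ∞) := by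
      calc ((i.castSucc : Fin (c.length + 1)) : ℕ∞) + 1 + 1 ≤ Order.height q + 1 := by gcongr
        _ ≤ _ := h2
    simp only [Fin.val_castSucc, Fin.val_succ] at h3
    have h4 : (i : ℕ) + 1 + 1 ≤ (i : ℕ) + 1 := by exact_mod_cast h3
    omega
  have hmax : c.last.asIdeal.IsMaximal := by rw [hclast]; exact hm
  have := length_eq_ringKrullDim_of_saturated k c.length S c rfl hhead hmax hsat
  rw [← this, ← hl, hclen]
  rfl

theorem ringKrullDim_eq_trdeg_of_finiteType_domain (k S : Type u) [Field k] [CommRing S] [IsDomain S]
    [Algebra k S] [Algebra.FiniteType k S] :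
    ∃ n : ℕ, Algebra.trdeg k (FractionRing S) = n ∧ ringKrullDim S = n ∧
      ∀ (m : Ideal S) [m.IsMaximal], ringKrullDim (Localization.AtPrime m) = n := by
  obtain ⟨s, g, hginj, hgfin⟩ := exists_finite_inj_algHom_of_fg k S
  let P := MvPolynomial (Fin s) k
  letI : Algebra P S := g.toRingHom.toAlgebra
  haveI : IsScalarTower k P S := IsScalarTower.of_algebraMap_eq' g.comp_algebraMap.symm
  have hfinPA : Module.Finite P S := hgfin
  have hint : Algebra.IsIntegral P S := inferInstance
  have hinj' : Function.Injective (algebraMap P S) := hginj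
  haveI hfaith : FaithfulSMul P S := (faithfulSMul_iff_algebraMap_injective P S).mpr hginj
  have hdimA : ringKrullDim S = (s : WithBot ℕ∞) := by
    rw [← ringKrullDim_eq_of_isIntegral_of_injective hinj', ringKrullDim_mvPolynomial_fin_field]
  refine ⟨s, ?_, hdimA, ?_⟩
  · -- transcendence degree
    haveI : Algebra.IsAlgebraic P S := inferInstance
    haveI : Algebra.IsAlgebraic S (FractionRing S) :=
      IsLocalization.isAlgebraic (FractionRing S) (nonZeroDivisors S)
    haveI : IsScalarTower P S (FractionRing S) := inferInstance
    haveI : IsScalarTower k P (FractionRing S) := by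
      refine IsScalarTower.of_algebraMap_eq' ?_
      rw [IsScalarTower.algebraMap_eq k S (FractionRing S), IsScalarTower.algebraMap_eq k P S,
        IsScalarTower.algebraMap_eq P S (FractionRing S), RingHom.comp_assoc]
    haveI : FaithfulSMul P (FractionRing S) := by
      rw [faithfulSMul_iff_algebraMap_injective, IsScalarTower.algebraMap_eq P S (FractionRing S)]
      exact (IsFractionRing.injective S (FractionRing S)).comp hinj'
    haveI : Algebra.IsAlgebraic P (FractionRing S) := Algebra.IsAlgebraic.trans P S (FractionRing S)
    have h0 : Algebra.trdeg P (FractionRing S) = 0 := trdeg_eq_zero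
    have h1 : Algebra.trdeg k P = s := by
      rw [MvPolynomial.trdeg_of_isDomain]; simp
    have := trdeg_add_eq k P (A := FractionRing S)
    rw [h0, h1, add_zero] at this
    exact this.symm
  · intro m hm
    rw [IsLocalization.AtPrime.ringKrullDim_eq_height m, height_of_isMaximal_of_finiteType_domain k S m,
      hdimA]

end Groth.Agent.H14
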