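import Groth.Agent.H14.SerreNormal
import Mathlib.RingTheory.KrullDimension.Regular
import Groth.Agent.H72.FlatCM

set_option autoImplicit false
set_option linter.style.haveILetI false
universe u

namespace Groth.Agent.H14

open IsLocalRing

/-- A regular local ring has depth at least its dimension. -/
theorem spanFinrank_le_idealDepth_of_isRegularLocalRing_aux : ∀ (n : ℕ) (A : Type u) [CommRing A]
    [IsRegularLocalRing A], (maximalIdeal A).spanFinrank = n →
    (n : ℕ∞) ≤ LocCoh.idealDepth (maximalIdeal A) A := by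
  intro n
  induction n with
  | zero => intro A _ _ _; simp
  | succ n ih =>
    intro A _ _ h
    haveI : IsDomain A := Groth.Agent.Lead.RLR.isDomain A
    have hne : ∃ t ∈ maximalIdeal A, t ∉ maximalIdeal A ^ 2 := by
      by_contra hcon
      push Not at hcon
      have hle : maximalIdeal A ≤ maximalIdeal A ^ 2 := fun t ht => hcon t ht
      have hbot : maximalIdeal A = ⊥ := by
        apply Submodule.eq_bot_of_le_smul_of_le_jacobson_bot (maximalIdeal A) (maximalIdeal A)
          (IsNoetherian.noetherian _) _ (maximalIdeal_le_jacobson ⊥)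
        rw [smul_eq_mul, ← pow_two]
        exact hle
      rw [hbot, Submodule.spanFinrank_bot] at h
      omega
    obtain ⟨t, htm, ht2⟩ := hne
    obtain ⟨s, hs, hspan⟩ := Groth.Agent.Lead.RLR.exists_finset_span_insert A t htm ht2
    obtain ⟨hreg, hdim, hcard⟩ := Groth.Agent.Lead.RLR.quotient_regular A t s hspan hs.le
    haveI := hreg
    have hq : (maximalIdeal (A ⧸ Ideal.span {t})).spanFinrank = n := by
      have h1 := Groth.Agent.Lead.RLR.ringKrullDim_eq_spanFinrank A
      have h2 := Groth.Agent.Lead.RLR.ringKrullDim_eq_spanFinrank (A ⧸ Ideal.span {t})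
      rw [h1, h2, h] at hdim
      have h3 : (maximalIdeal (A ⧸ Ideal.span {t})).spanFinrank + 1 = n + 1 := by
        exact_mod_cast hdim
      omega
    have ht0 : t ≠ 0 := by
      rintro rfl
      exact ht2 (Ideal.zero_mem _)
    have h1 := ih (A ⧸ Ideal.span {t}) hq
    have h2 := idealDepth_quotient_add_one_le A t htm
      (isSMulRegular_of_mem_nonZeroDivisors (mem_nonZeroDivisors_of_ne_zero ht0))
    rw [Nat.cast_succ]
    exact le_trans (by gcongr) h2

/-- A regular local ring is Cohen–Macaulay: `dim ≤ depth`. -/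
theorem ringKrullDim_le_idealDepth_of_isRegularLocalRing (A : Type u) [CommRing A]
    [IsRegularLocalRing A] :
    ringKrullDim A ≤ ((LocCoh.idealDepth (maximalIdeal A) A : ℕ∞) : WithBot ℕ∞) := by
  rw [Groth.Agent.Lead.RLR.ringKrullDim_eq_spanFinrank A]
  exact_mod_cast spanFinrank_le_idealDepth_of_isRegularLocalRing_aux _ A rfl

/-- Depth drops by exactly one on dividing a local ring by a regular element of the maximal
ideal (upper bound part). -/
theorem idealDepth_le_quotient_add_one (C : Type u) [CommRing C] [IsNoetherianRing C]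
    [IsLocalRing C] (t : C) (ht : t ∈ maximalIdeal C) (hreg : IsSMulRegular C t)
    [IsLocalRing (C ⧸ Ideal.span {t})] :
    LocCoh.idealDepth (maximalIdeal C) C ≤
      LocCoh.idealDepth (maximalIdeal (C ⧸ Ideal.span {t})) (C ⧸ Ideal.span {t}) + 1 := by
  have hmap : (maximalIdeal C).map (algebraMap C (C ⧸ Ideal.span {t})) =
      maximalIdeal (C ⧸ Ideal.span {t}) :=
    IsLocalRing.map_maximalIdeal_of_surjective _ Ideal.Quotient.mk_surjective
  have h1 := H72.DepthFinite.idealDepth_eq_idealDepth_map (A := C) (B := C ⧸ Ideal.span {t})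
    (maximalIdeal C) (C ⧸ Ideal.span {t})
  rw [hmap] at h1
  have e : QuotSMulTop t C ≃ₗ[C] (C ⧸ Ideal.span {t}) :=
    Submodule.quotEquivOfEq _ _ (by
      rw [← Submodule.ideal_span_singleton_smul, smul_eq_mul, Ideal.mul_top])
  rw [← h1, ← H15.idealDepth_congr e, ← ENat.forall_natCast_le_iff_le]
  intro n hn
  cases n with
  | zero => simp
  | succ m =>
    have hm := D15.le_idealDepth_quotSMulTop (maximalIdeal C) C t ht hreg m hn
    rw [Nat.cast_succ]
    gcongr

/-- A quotient of a regular local ring by one element of the maximal ideal is Cohen–Macaulay: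
`dim ≤ depth`. -/
theorem ringKrullDim_le_idealDepth_quotient_of_isRegularLocalRing (C : Type u) [CommRing C]
    [IsRegularLocalRing C] (f : C) (hf : f ∈ maximalIdeal C) [IsLocalRing (C ⧸ Ideal.span {f})] :
    ringKrullDim (C ⧸ Ideal.span {f}) ≤
      ((LocCoh.idealDepth (maximalIdeal (C ⧸ Ideal.span {f})) (C ⧸ Ideal.span {f}) : ℕ∞) :
        WithBot ℕ∞) := by
  haveI : IsDomain C := Groth.Agent.Lead.RLR.isDomain C
  by_cases hf0 : f = 0
  · subst hf0
    have hbot : Ideal.span {(0 : C)} = ⊥ := by simp
    let e : (C ⧸ Ideal.span {(0 : C)}) ≃+* C :=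
      (Ideal.quotEquivOfEq hbot).trans (RingEquiv.quotientBot C)
    rw [ringKrullDim_eq_of_ringEquiv e, idealDepth_maximalIdeal_le_of_ringEquiv e]
    exact ringKrullDim_le_idealDepth_of_isRegularLocalRing C
  · have hreg : IsSMulRegular C f :=
      isSMulRegular_of_mem_nonZeroDivisors (mem_nonZeroDivisors_of_ne_zero hf0)
    have hjac : f ∈ Ring.jacobson C := by
      rw [IsLocalRing.ringJacobson_eq_maximalIdeal]
      exact hf
    have hdim := ringKrullDim_quotient_span_singleton_succ_eq_ringKrullDim_of_mem_jacobson hreg hjac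
    have h1 := ringKrullDim_le_idealDepth_of_isRegularLocalRing C
    have h2 := idealDepth_le_quotient_add_one C f hf hreg
    obtain ⟨n, hn⟩ := H72.FlatCM.exists_ringKrullDim_eq_natCast (C ⧸ Ideal.span {f})
    rw [hn] at hdim ⊢
    rw [← hdim] at h1
    have h3 : ((n : ℕ∞) + 1 : ℕ∞) ≤ LocCoh.idealDepth (maximalIdeal C) C := by
      exact_mod_cast h1
    have h4 := h3.trans h2
    have h5 : (n : ℕ∞) ≤
        LocCoh.idealDepth (maximalIdeal (C ⧸ Ideal.span {f})) (C ⧸ Ideal.span {f}) :=
      (ENat.add_le_add_iff_right (by simp : (1 : ℕ∞) ≠ ⊤)).mp h4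
    exact_mod_cast h5

end Groth.Agent.H14
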