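import Groth.Agent.H14.DepthEtale

set_option autoImplicit false
set_option linter.style.haveILetI false
universe u

open RingTheory.Sequence TensorProduct

namespace Groth.Agent.H14

/-- The closed fibre of an étale local homomorphism is a point. -/
theorem zeroLocus_map_maximalIdeal_of_etale (A B : Type u) [CommRing A] [CommRing B] [IsLocalRing A]
    [IsLocalRing B] [Algebra A B] [IsLocalHom (algebraMap A B)]
    (E : Type u) [CommRing E] [Algebra A E] [Algebra.Etale A E] (P : Ideal E) [P.IsPrime]
    [Algebra E B] [IsScalarTower A E B] [IsLocalization.AtPrime B P] :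
    PrimeSpectrum.zeroLocus
        ((IsLocalRing.maximalIdeal A).map (algebraMap A B) : Set B) =
      PrimeSpectrum.zeroLocus (IsLocalRing.maximalIdeal B : Set B) := by
  haveI : Algebra.QuasiFinite A E := inferInstance
  have hJle : (IsLocalRing.maximalIdeal A).map (algebraMap A B) ≤ IsLocalRing.maximalIdeal B :=
    ((IsLocalRing.local_hom_TFAE (algebraMap A B)).out 0 2).mp ‹_›
  have hcomap : (IsLocalRing.maximalIdeal B).comap (algebraMap A B) = IsLocalRing.maximalIdeal A :=
    ((IsLocalRing.local_hom_TFAE (algebraMap A B)).out 0 4).mp ‹_›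
  have hPunder : P.under A = IsLocalRing.maximalIdeal A := by
    have h := IsLocalization.AtPrime.under_maximalIdeal B P
    rw [← h, Ideal.under_def, Ideal.under_def, Ideal.comap_comap,
      ← IsScalarTower.algebraMap_eq, hcomap]
  apply le_antisymm
  · intro Q' hQ'
    rw [PrimeSpectrum.mem_zeroLocus] at hQ' ⊢
    have hQ'le : Q'.asIdeal ≤ IsLocalRing.maximalIdeal B :=
      IsLocalRing.le_maximalIdeal Q'.2.ne_top
    have hQle : Q'.asIdeal.comap (algebraMap E B) ≤ P :=
      (Ideal.comap_mono hQ'le).trans (IsLocalization.AtPrime.under_maximalIdeal B P).le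
    have hQunder : (Q'.asIdeal.comap (algebraMap E B)).under A = IsLocalRing.maximalIdeal A := by
      symm
      apply (IsLocalRing.maximalIdeal.isMaximal A).eq_of_le Ideal.IsPrime.ne_top'
      intro a ha
      rw [Ideal.under_def, Ideal.mem_comap, Ideal.mem_comap, ← IsScalarTower.algebraMap_apply]
      exact hQ' (Ideal.mem_map_of_mem _ ha)
    have hQP : Q'.asIdeal.comap (algebraMap E B) = P :=
      Algebra.QuasiFinite.eq_of_le_of_under_eq (R := A) _ _ hQle (hQunder.trans hPunder.symm)
    rw [SetLike.coe_subset_coe, ← IsLocalization.AtPrime.map_eq_maximalIdeal P B, ← hQP]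
    exact Ideal.map_comap_le
  · exact PrimeSpectrum.zeroLocus_anti_mono hJle

/-- A flat local homomorphism with zero-dimensional closed fibre preserves dimension. -/
theorem ringKrullDim_eq_of_flat_of_zeroLocus (A B : Type u) [CommRing A] [CommRing B] [Algebra A B]
    [IsLocalRing A] [IsLocalRing B] [IsNoetherianRing A] [IsNoetherianRing B] [Module.Flat A B]
    [IsLocalHom (algebraMap A B)]
    (hfib : PrimeSpectrum.zeroLocus
        ((IsLocalRing.maximalIdeal A).map (algebraMap A B) : Set B) =
      PrimeSpectrum.zeroLocus (IsLocalRing.maximalIdeal B : Set B)) :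
    ringKrullDim B = ringKrullDim A := by
  have hJle : (IsLocalRing.maximalIdeal A).map (algebraMap A B) ≤ IsLocalRing.maximalIdeal B :=
    ((IsLocalRing.local_hom_TFAE (algebraMap A B)).out 0 2).mp ‹_›
  have hcomap : (IsLocalRing.maximalIdeal B).comap (algebraMap A B) = IsLocalRing.maximalIdeal A :=
    ((IsLocalRing.local_hom_TFAE (algebraMap A B)).out 0 4).mp ‹_›
  haveI : (IsLocalRing.maximalIdeal B).LiesOver (IsLocalRing.maximalIdeal A) := ⟨hcomap.symm⟩
  rw [← IsLocalRing.maximalIdeal_height_eq_ringKrullDim,
    ← IsLocalRing.maximalIdeal_height_eq_ringKrullDim,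
    Ideal.height_eq_height_add_of_liesOver_of_hasGoingDown (IsLocalRing.maximalIdeal A)
      (IsLocalRing.maximalIdeal B)]
  have hmin : IsLocalRing.maximalIdeal B ∈
      ((IsLocalRing.maximalIdeal A).map (algebraMap A B)).minimalPrimes := by
    refine ⟨⟨inferInstance, hJle⟩, fun Q hQ _ => ?_⟩
    have hmem : (⟨Q, hQ.1⟩ : PrimeSpectrum B) ∈ PrimeSpectrum.zeroLocus
        ((IsLocalRing.maximalIdeal A).map (algebraMap A B) : Set B) := by
      rw [PrimeSpectrum.mem_zeroLocus]
      exact hQ.2
    rw [hfib, PrimeSpectrum.mem_zeroLocus] at hmem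
    exact hmem
  have h2 : ((IsLocalRing.maximalIdeal B).map
      (Ideal.Quotient.mk ((IsLocalRing.maximalIdeal A).map (algebraMap A B)))).height = 0 := by
    rw [Ideal.minimalPrimes_eq_comap] at hmin
    obtain ⟨Q', hQ', hQ'eq⟩ := hmin
    rw [← hQ'eq, Ideal.map_comap_of_surjective _ Ideal.Quotient.mk_surjective]
    haveI := hQ'.1.1
    exact Ideal.height_eq_zero_iff.mpr hQ'
  rw [h2, add_zero]

theorem supportDim_self (A : Type u) [CommRing A] : Module.supportDim A A = ringKrullDim A := by
  unfold Module.supportDim
  rw [support_self_eq_univ A]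
  exact Order.krullDim_eq_of_orderIso OrderIso.Set.univ

/-- S18581: Cohen–Macaulayness is invariant along an étale local homomorphism. -/
theorem isCohenMacaulayLocalRing_iff_of_etale_localRingHom (A B : Type u) [CommRing A] [CommRing B]
    [IsLocalRing A] [IsLocalRing B] [IsNoetherianRing A] [IsNoetherianRing B]
    [Algebra A B] [IsLocalHom (algebraMap A B)]
    (E : Type u) [CommRing E] [Algebra A E] [Algebra.Etale A E] (P : Ideal E) [P.IsPrime]
    [Algebra E B] [IsScalarTower A E B] [IsLocalization.AtPrime B P] :
    LocCoh.IsCohenMacaulayLocalRing A ↔ LocCoh.IsCohenMacaulayLocalRing B := by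
  haveI : Module.Flat E B := IsLocalization.flat B P.primeCompl
  haveI : Module.Flat A B := Module.Flat.trans A E B
  have hdepth := depth_eq_of_etale_localRingHom A B E P
  have hdim := ringKrullDim_eq_of_flat_of_zeroLocus A B
    (zeroLocus_map_maximalIdeal_of_etale A B E P)
  constructor
  · intro h
    refine { supportDim_eq_depth := ?_ }
    rw [supportDim_self, hdim, ← hdepth, ← supportDim_self]
    exact h.supportDim_eq_depth
  · intro h
    refine { supportDim_eq_depth := ?_ }
    rw [supportDim_self, ← hdim, hdepth, ← supportDim_self]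
    exact h.supportDim_eq_depth

end Groth.Agent.H14
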