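import Groth.Agent.H14.NormalLift
import Groth.Agent.Lead.RegularLocal3

set_option autoImplicit false
set_option linter.style.haveILetI false
universe u

namespace Groth.Agent.H14

open IsLocalRing

theorem isIntegrallyClosed_of_isRegularLocalRing_aux : ∀ (n : ℕ) (A : Type u) [CommRing A]
    [IsRegularLocalRing A], (maximalIdeal A).spanFinrank = n → IsIntegrallyClosed A := by
  intro n
  induction n with
  | zero =>
    intro A _ _ h
    have hm : maximalIdeal A = ⊥ :=
      (Submodule.spanFinrank_eq_zero_iff_eq_bot (IsNoetherian.noetherian _)).mp h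
    have hf : IsField A := isField_iff_maximalIdeal_eq.mpr hm
    letI := hf.toField
    infer_instance
  | succ n ih =>
    intro A _ _ h
    haveI : IsDomain A := Groth.Agent.Lead.RLR.isDomain A
    have hne : ∃ t ∈ maximalIdeal A, t ∉ maximalIdeal A ^ 2 := by
      by_contra hcon
      push Not at hcon
      have hle : maximalIdeal A ≤ maximalIdeal A ^ 2 := fun t ht => hcon t ht
      have hbot : maximalIdeal A = ⊥ := by
        apply Submodule.eq_bot_of_le_smul_of_le_jacobson_bot (maximalIdeal A) (maximalIdeal A)
          (IsNoetherian.noetherian _) _ (maximalIdeal_le_jacobson ⊥)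
        rw [smul_eq_mul, ← pow_two]
        exact hle
      rw [hbot, Submodule.spanFinrank_bot] at h
      omega
    obtain ⟨t, htm, ht2⟩ := hne
    obtain ⟨s, hs, hspan⟩ := Groth.Agent.Lead.RLR.exists_finset_span_insert A t htm ht2
    obtain ⟨hreg, hdim, hcard⟩ := Groth.Agent.Lead.RLR.quotient_regular A t s hspan hs.le
    haveI := hreg
    have hq : (maximalIdeal (A ⧸ Ideal.span {t})).spanFinrank = n := by
      have h1 := Groth.Agent.Lead.RLR.ringKrullDim_eq_spanFinrank A
      have h2 := Groth.Agent.Lead.RLR.ringKrullDim_eq_spanFinrank (A ⧸ Ideal.span {t})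
      rw [h1, h2, h] at hdim
      have h3 : (maximalIdeal (A ⧸ Ideal.span {t})).spanFinrank + 1 = n + 1 := by
        exact_mod_cast hdim
      omega
    haveI : IsIntegrallyClosed (A ⧸ Ideal.span {t}) := ih _ hq
    haveI : IsDomain (A ⧸ Ideal.span {t}) := Groth.Agent.Lead.RLR.isDomain _
    have ht0 : t ≠ 0 := by
      rintro rfl
      exact ht2 (Ideal.zero_mem _)
    exact (isDomain_and_isIntegrallyClosed_of_quotient A t htm
      (mem_nonZeroDivisors_of_ne_zero ht0)).2

/-- A regular local ring is integrally closed. -/
theorem isIntegrallyClosed_of_isRegularLocalRing (A : Type u) [CommRing A]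
    [IsRegularLocalRing A] : IsIntegrallyClosed A :=
  isIntegrallyClosed_of_isRegularLocalRing_aux _ A rfl

end Groth.Agent.H14
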