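import Mathlib.RingTheory.Regular.RegularSequence
import Mathlib.RingTheory.Nakayama

set_option autoImplicit false
universe u v

namespace Groth.Agent.H14

open RingTheory.Sequence Submodule
open scoped Pointwise

/-- Module version of: if `gs` is `M`-regular, `N ⊆ (gs) M` and `gs` is still `M/N`-regular, then `N = 0`. -/
theorem eq_bot_of_isWeaklyRegular_quotient {R : Type u} [CommRing R] [IsLocalRing R]
    (gs : List R) (hm : ∀ g ∈ gs, g ∈ IsLocalRing.maximalIdeal R) :
    ∀ (M : Type v) [AddCommGroup M] [Module R M] [IsNoetherian R M] (N : Submodule R M),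
      IsWeaklyRegular M gs → N ≤ Ideal.ofList gs • (⊤ : Submodule R M) →
      IsWeaklyRegular (M ⧸ N) gs → N = ⊥ := by
  induction gs with
  | nil =>
    intro M _ _ _ N _ hN _
    simpa using hN
  | cons g gs ih =>
    intro M _ _ _ N hM hN hMN
    have hgm : g ∈ IsLocalRing.maximalIdeal R := hm g (List.mem_cons_self)
    have hm' : ∀ g' ∈ gs, g' ∈ IsLocalRing.maximalIdeal R :=
      fun g' hg' => hm g' (List.mem_cons_of_mem _ hg')
    rw [isWeaklyRegular_cons_iff] at hM hMN
    obtain ⟨hM1, hM2⟩ := hM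
    obtain ⟨hMN1, hMN2⟩ := hMN
    -- the exact sequence after reduction mod g
    have hex : Function.Exact (QuotSMulTop.map g N.subtype) (QuotSMulTop.map g N.mkQ) :=
      QuotSMulTop.map_exact g (LinearMap.exact_subtype_mkQ N) N.mkQ_surjective
    have hsurj : Function.Surjective (QuotSMulTop.map g N.mkQ) :=
      QuotSMulTop.map_surjective g N.mkQ_surjective
    set N' : Submodule R (QuotSMulTop g M) := LinearMap.ker (QuotSMulTop.map g N.mkQ) with hN'
    have hN'le : N' ≤ Ideal.ofList gs • (⊤ : Submodule R (QuotSMulTop g M)) := by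
      intro x hx
      obtain ⟨y, rfl⟩ := (hex x).mp hx
      obtain ⟨⟨n, hn⟩, rfl⟩ := Submodule.mkQ_surjective _ y
      have hn' := hN hn
      rw [Ideal.ofList_cons_smul, Submodule.mem_sup] at hn'
      obtain ⟨a, ha, b, hb, rfl⟩ := hn'
      have h1 : QuotSMulTop.map g N.subtype (Submodule.mkQ _ ⟨a + b, hn⟩)
          = Submodule.mkQ (g • ⊤ : Submodule R M) b := by
        rw [Submodule.mkQ_apply, QuotSMulTop.map_apply_mk]
        simp only [Submodule.subtype_apply, Submodule.mkQ_apply, Submodule.Quotient.mk_add]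
        rw [(Submodule.Quotient.mk_eq_zero _).mpr ha, zero_add]
      erw [h1]
      have : Submodule.mkQ (g • ⊤ : Submodule R M) b ∈
          (Ideal.ofList gs • (⊤ : Submodule R M)).map (Submodule.mkQ (g • ⊤ : Submodule R M)) :=
        Submodule.mem_map_of_mem hb
      rw [Submodule.map_smul''] at this
      exact Submodule.smul_mono le_rfl le_top this
    have e : (QuotSMulTop g M ⧸ N') ≃ₗ[R] QuotSMulTop g (M ⧸ N) :=
      LinearMap.quotKerEquivOfSurjective _ hsurj
    have hreg' : IsWeaklyRegular (QuotSMulTop g M ⧸ N') gs :=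
      (e.isWeaklyRegular_congr gs).mpr hMN2
    have hbot : N' = ⊥ := ih hm' (QuotSMulTop g M) N' hM2 hN'le hreg'
    -- hence N ≤ g • ⊤
    have hNg : N ≤ (g • ⊤ : Submodule R M) := by
      intro n hn
      have h0 : Submodule.mkQ (g • ⊤ : Submodule R M) n ∈ N' := by
        rw [hN', LinearMap.mem_ker]
        erw [QuotSMulTop.map_apply_mk]
        have : N.mkQ n = 0 := (Submodule.Quotient.mk_eq_zero _).mpr hn
        rw [this]; simp
      rw [hbot, Submodule.mem_bot] at h0
      exact (Submodule.Quotient.mk_eq_zero _).mp h0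
    have hNgN : N ≤ g • N := by
      have := smul_top_inf_eq_smul_of_isSMulRegular_on_quot hMN1
      exact le_trans (le_inf hNg le_rfl) this
    refine Submodule.eq_bot_of_le_smul_of_le_jacobson_bot (Ideal.span {g}) N
      (IsNoetherian.noetherian N) ?_ ?_
    · rwa [Submodule.ideal_span_singleton_smul]
    · rw [Ideal.span_singleton_le_iff_mem, IsLocalRing.jacobson_eq_maximalIdeal ⊥ bot_ne_top]
      exact hgm

theorem eq_bot_of_regular_in_quotient (B : Type u) [CommRing B] [IsNoetherianRing B] [IsLocalRing B]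
    (gs : List B) (hm : ∀ g ∈ gs, g ∈ IsLocalRing.maximalIdeal B)
    (hreg : IsRegular B gs)
    (c : Ideal B) (hc : c ≤ Ideal.ofList gs)
    (hcreg : IsRegular (B ⧸ c) (gs.map (Ideal.Quotient.mk c))) : c = ⊥ := by
  refine eq_bot_of_isWeaklyRegular_quotient gs hm B c hreg.toIsWeaklyRegular ?_ ?_
  · rw [smul_eq_mul, Ideal.mul_top]; exact hc
  · exact (isWeaklyRegular_map_algebraMap_iff (B ⧸ c) (B ⧸ c) gs).mp hcreg.toIsWeaklyRegular

end Groth.Agent.H14
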