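import Groth.Agent.H14.EtaleFactorLift
import Mathlib.LinearAlgebra.Matrix.Charpoly.LinearMap
import Mathlib.RingTheory.IntegralClosure.IsIntegralClosure.Basic
import Mathlib.RingTheory.Ideal.Operations

set_option autoImplicit false
set_option linter.style.haveILetI false
universe u

namespace Groth.Agent.H14

open Polynomial
open scoped TensorProduct

section CH

variable {A B : Type u} [CommRing A] [CommRing B] [Algebra A B]

/-- Cayley–Hamilton for a finitely generated `A`-submodule `N ∋ 1` of an `A`-algebra `B` and an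
element `c` with `c N ⊆ I N`. -/
theorem exists_monic_aeval_eq_zero_of_mul_mem_smul (I : Ideal A) (N : Submodule A B) (hN : N.FG)
    (h1 : (1 : B) ∈ N) (c : B) (hc : ∀ m ∈ N, c * m ∈ I • N) :
    ∃ p : A[X], p.Monic ∧ (∀ k, p.coeff k ∈ I ^ (p.natDegree - k)) ∧ aeval c p = 0 := by
  haveI : Module.Finite A N := Module.Finite.iff_fg.mpr hN
  have hcN : ∀ m ∈ N, (LinearMap.mulLeft A c) m ∈ N := fun m hm =>
    Submodule.smul_le_right (hc m hm)
  let φ : Module.End A N := (LinearMap.mulLeft A c).restrict hcN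
  have hrange : LinearMap.range φ ≤ I • ⊤ := by
    rintro _ ⟨m, rfl⟩
    rw [Submodule.mem_smul_top_iff]
    exact hc m m.2
  obtain ⟨p, hpm, -, hpc, hp0⟩ :=
    LinearMap.exists_monic_and_natDegree_eq_and_coeff_mem_pow_and_aeval_eq_zero A φ I hrange
  refine ⟨p, hpm, hpc, ?_⟩
  have hpow : ∀ (n : ℕ) (x : N), (((φ ^ n) x : N) : B) = c ^ n * x := by
    intro n
    induction n with
    | zero => intro x; simp
    | succ n ih =>
      intro x
      rw [pow_succ, Module.End.mul_apply, ih]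
      show c ^ n * (c * x) = _
      ring
  have h2 : ((aeval φ p) ⟨1, h1⟩ : N) = 0 := by rw [hp0]; rfl
  have h3 := congrArg (Subtype.val) h2
  rw [Polynomial.aeval_endomorphism, Polynomial.sum_def, Submodule.coe_sum] at h3
  simp only [Submodule.coe_smul, hpow, mul_one, ZeroMemClass.coe_zero] at h3
  rw [Polynomial.aeval_eq_sum_range' (n := p.natDegree + 1) (Nat.lt_succ_self _)]
  rw [← h3]
  -- sums over support vs range
  symm
  apply Finset.sum_subset
  · intro i hi
    rw [Finset.mem_range]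
    exact Nat.lt_succ_of_le (Polynomial.le_natDegree_of_mem_supp i hi)
  · intro i _ hi
    rw [Polynomial.notMem_support_iff.mp hi, zero_smul]

end CH

section Step1

variable {A B : Type u} [CommRing A] [CommRing B] [Algebra A B]

theorem map_eq_X_pow_of_coeff_mem (I : Ideal A) (p : A[X]) (hp : p.Monic)
    (hpc : ∀ k, p.coeff k ∈ I ^ (p.natDegree - k)) :
    p.map (Ideal.Quotient.mk I) = X ^ p.natDegree := by
  ext k
  rw [coeff_map, coeff_X_pow]
  split_ifs with hk
  · rw [hk, hp.coeff_natDegree, map_one]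
  · rcases lt_or_gt_of_ne hk with hlt | hgt
    · rw [Ideal.Quotient.eq_zero_iff_mem]
      exact Ideal.pow_le_self (Nat.sub_ne_zero_of_lt hlt) (hpc k)
    · rw [coeff_eq_zero_of_natDegree_lt hgt, map_zero]

/-- If `B` is integral over `A` and `b * b - b ∈ I B`, then `b` is a root of a monic polynomial
which is congruent to `X ^ d * (X - 1) ^ d` modulo `I`, `d ≥ 1`. -/
theorem exists_monic_aeval_eq_zero_map_eq [Algebra.IsIntegral A B] (I : Ideal A) (b : B)
    (hb : b * b - b ∈ I.map (algebraMap A B)) :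
    ∃ (d : ℕ) (P : A[X]), 1 ≤ d ∧ P.Monic ∧ aeval b P = 0 ∧
      P.map (Ideal.Quotient.mk I) = X ^ d * (X - 1) ^ d := by
  classical
  rcases subsingleton_or_nontrivial A with hsub | hnt
  · haveI : Subsingleton B := Module.subsingleton A B
    haveI : Subsingleton (A ⧸ I) := Ideal.Quotient.mk_surjective.subsingleton
    exact ⟨1, 1, le_refl 1, monic_one, Subsingleton.elim _ _, Subsingleton.elim _ _⟩
  -- write `c = b * b - b` as a combination of elements of `B` with coefficients in `I`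
  have hb' : b * b - b ∈ I • Submodule.span A (Set.range (id : B → B)) := by
    rw [Set.range_id, Submodule.span_univ, Ideal.smul_top_eq_map]
    exact hb
  obtain ⟨a, haI, hsum⟩ := (Submodule.mem_ideal_smul_span_iff_exists_sum I (id : B → B) _).mp hb'
  -- the finite subalgebra
  let S : Set B := insert b (a.support : Set B)
  have hSfin : S.Finite := (Finset.finite_toSet a.support).insert b
  let B₀ : Subalgebra A B := Algebra.adjoin A S
  have hfg : (Subalgebra.toSubmodule B₀).FG :=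
    fg_adjoin_of_finite hSfin (fun x _ => Algebra.IsIntegral.isIntegral x)
  have hbB₀ : b ∈ B₀ := Algebra.subset_adjoin (Set.mem_insert b _)
  have hmul : ∀ m ∈ Subalgebra.toSubmodule B₀,
      (b * b - b) * m ∈ I • Subalgebra.toSubmodule B₀ := by
    intro m hm
    rw [← hsum, Finsupp.sum, Finset.sum_mul]
    refine Submodule.sum_mem _ (fun i hi => ?_)
    rw [id, smul_mul_assoc]
    refine Submodule.smul_mem_smul (haI i) ?_
    have hi' : i ∈ B₀ := Algebra.subset_adjoin (Set.mem_insert_of_mem b hi)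
    exact B₀.mul_mem hi' hm
  obtain ⟨p, hpm, hpc, hp0⟩ := exists_monic_aeval_eq_zero_of_mul_mem_smul I
    (Subalgebra.toSubmodule B₀) hfg B₀.one_mem (b * b - b) hmul
  have hpmap : p.map (Ideal.Quotient.mk I) = X ^ p.natDegree :=
    map_eq_X_pow_of_coeff_mem I p hpm hpc
  have hq : (X ^ 2 - X : A[X]).Monic := by
    apply monic_X_pow_sub
    rw [degree_X]
    norm_num
  have hqdeg : (X ^ 2 - X : A[X]).natDegree ≠ 0 := by
    have : (X ^ 2 - X : A[X]).natDegree = 2 := by
      apply natDegree_eq_of_degree_eq_some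
      rw [degree_sub_eq_left_of_degree_lt (by rw [degree_X_pow, degree_X]; norm_num),
        degree_X_pow]
    rw [this]
    norm_num
  refine ⟨p.natDegree + 1, (p * X).comp (X ^ 2 - X), Nat.le_add_left 1 _,
    (hpm.mul monic_X).comp hq hqdeg, ?_, ?_⟩
  · rw [aeval_comp, map_mul, aeval_X]
    have h1 : aeval b (X ^ 2 - X : A[X]) = b * b - b := by
      rw [map_sub, map_pow, aeval_X, pow_two]
    rw [h1, hp0, zero_mul]
  · rw [map_comp, Polynomial.map_mul, hpmap, map_X, Polynomial.map_sub, Polynomial.map_pow,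
      map_X, ← pow_succ, X_pow_comp, ← mul_pow]
    congr 1
    ring

end Step1

section Main

variable {A B : Type u} [CommRing A] [CommRing B] [Algebra A B]

/-- `1 ⊗ c ∈ I (A' ⊗ B)` for `c ∈ I B`. -/
theorem one_tmul_mem_map (I : Ideal A) (A' : Type u) [CommRing A'] [Algebra A A'] {c : B}
    (hc : c ∈ I.map (algebraMap A B)) :
    (1 : A') ⊗ₜ[A] c ∈ I.map (algebraMap A (A' ⊗[A] B)) := by
  have h1 := Ideal.mem_map_of_mem
    (Algebra.TensorProduct.includeRight : B →ₐ[A] A' ⊗[A] B).toRingHom hc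
  rw [Ideal.map_map] at h1
  have h2 : ((Algebra.TensorProduct.includeRight : B →ₐ[A] A' ⊗[A] B).toRingHom).comp
      (algebraMap A B) = algebraMap A (A' ⊗[A] B) := by
    ext a
    simp
  rw [h2] at h1
  exact h1

/-- Étale-local lifting of idempotents along integral maps (S2041). -/
theorem exists_etale_idempotent_lift [Algebra.IsIntegral A B] (I : Ideal A)
    (e : B ⧸ I.map (algebraMap A B)) (he : IsIdempotentElem e) :
    ∃ (A' : Type u) (_ : CommRing A') (_ : Algebra A A'), Algebra.Etale A A' ∧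
      Function.Bijective (algebraMap (A ⧸ I) (A' ⧸ I.map (algebraMap A A'))) ∧
      ∃ e' : A' ⊗[A] B, IsIdempotentElem e' ∧
        ∀ b : B, Ideal.Quotient.mk (I.map (algebraMap A B)) b = e →
          e' - 1 ⊗ₜ b ∈ I.map (algebraMap A (A' ⊗[A] B)) := by
  obtain ⟨b₀, hb₀⟩ := Ideal.Quotient.mk_surjective e
  have hb₀I : b₀ * b₀ - b₀ ∈ I.map (algebraMap A B) := by
    rw [← Ideal.Quotient.eq_zero_iff_mem, map_sub, map_mul, hb₀, he.eq, sub_self]
  obtain ⟨d, P, hd, hPm, hP0, hPmap⟩ := exists_monic_aeval_eq_zero_map_eq I b₀ hb₀I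
  have hcop : IsCoprime (X ^ d : (A ⧸ I)[X]) ((X - 1) ^ d) := by
    apply IsCoprime.pow
    exact ⟨1, -1, by ring⟩
  have hm2 : ((X - 1) ^ d : (A ⧸ I)[X]).Monic := by
    have := (monic_X_sub_C (1 : A ⧸ I)).pow d
    simpa using this
  obtain ⟨A', i1, i2, het, hbij, g', h', hg', hh', hcop', hf', hgm, hhm⟩ :=
    exists_etale_lift_factorization_coprime I P hPm (X ^ d) ((X - 1) ^ d) (monic_X_pow d) hm2
      hcop hPmap
  refine ⟨A', i1, i2, het, hbij, ?_⟩
  obtain ⟨r, t, hrt⟩ := hcop'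
  have hPβ : aeval ((1 : A') ⊗ₜ[A] b₀) (P.map (algebraMap A A')) = 0 := by
    rw [aeval_map_algebraMap]
    have h1 := Polynomial.aeval_algHom_apply
      (Algebra.TensorProduct.includeRight : B →ₐ[A] A' ⊗[A] B) b₀ P
    rw [show (1 : A') ⊗ₜ[A] b₀ = (Algebra.TensorProduct.includeRight : B →ₐ[A] A' ⊗[A] B) b₀
      from rfl, h1, hP0, map_zero]
  have he' : IsIdempotentElem (aeval ((1 : A') ⊗ₜ[A] b₀) (r * g')) := by
    show _ * _ = _
    rw [← sub_eq_zero, ← map_mul, ← map_sub]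
    have hpoly : r * g' * (r * g') - r * g' = -(r * t) * (P.map (algebraMap A A')) := by
      rw [hf']
      linear_combination (r * g') * hrt
    rw [hpoly, map_mul, hPβ, mul_zero]
  refine ⟨aeval ((1 : A') ⊗ₜ[A] b₀) (r * g'), he', ?_⟩
  -- congruence modulo `I`
  have hβidem : Ideal.Quotient.mk (I.map (algebraMap A (A' ⊗[A] B))) ((1 : A') ⊗ₜ[A] b₀) *
      Ideal.Quotient.mk (I.map (algebraMap A (A' ⊗[A] B))) ((1 : A') ⊗ₜ[A] b₀) =
      Ideal.Quotient.mk (I.map (algebraMap A (A' ⊗[A] B))) ((1 : A') ⊗ₜ[A] b₀) := by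
    rw [← map_mul, ← sub_eq_zero, ← map_sub, Ideal.Quotient.eq_zero_iff_mem]
    have h1 : (1 : A') ⊗ₜ[A] b₀ * (1 : A') ⊗ₜ[A] b₀ - (1 : A') ⊗ₜ[A] b₀ =
        (1 : A') ⊗ₜ[A] (b₀ * b₀ - b₀) := by
      rw [TensorProduct.tmul_sub, Algebra.TensorProduct.tmul_mul_tmul, one_mul]
    rw [h1]
    exact one_tmul_mem_map I A' hb₀I
  have hρ : ∀ a ∈ I.map (algebraMap A A'),
      ((Ideal.Quotient.mk (I.map (algebraMap A (A' ⊗[A] B)))).comp
        (algebraMap A' (A' ⊗[A] B))) a = 0 := by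
    have hle : I.map (algebraMap A A') ≤ RingHom.ker
        ((Ideal.Quotient.mk (I.map (algebraMap A (A' ⊗[A] B)))).comp
          (algebraMap A' (A' ⊗[A] B))) := by
      rw [Ideal.map_le_iff_le_comap]
      intro a ha
      rw [Ideal.mem_comap, RingHom.mem_ker, RingHom.comp_apply,
        ← IsScalarTower.algebraMap_apply, Ideal.Quotient.eq_zero_iff_mem]
      exact Ideal.mem_map_of_mem _ ha
    exact fun a ha => hle ha
  have heval : ∀ Q : A'[X],
      Ideal.Quotient.mk (I.map (algebraMap A (A' ⊗[A] B))) (aeval ((1 : A') ⊗ₜ[A] b₀) Q) =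
        eval₂ (Ideal.Quotient.lift (I.map (algebraMap A A'))
          ((Ideal.Quotient.mk (I.map (algebraMap A (A' ⊗[A] B)))).comp
            (algebraMap A' (A' ⊗[A] B))) hρ)
          (Ideal.Quotient.mk (I.map (algebraMap A (A' ⊗[A] B))) ((1 : A') ⊗ₜ[A] b₀))
          (Q.map (Ideal.Quotient.mk (I.map (algebraMap A A')))) := by
    intro Q
    rw [eval₂_map, aeval_def, hom_eval₂]
    rfl
  have hg'β : Ideal.Quotient.mk (I.map (algebraMap A (A' ⊗[A] B)))
      (aeval ((1 : A') ⊗ₜ[A] b₀) g') =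
      Ideal.Quotient.mk (I.map (algebraMap A (A' ⊗[A] B))) ((1 : A') ⊗ₜ[A] b₀) := by
    rw [heval, hgm, Polynomial.map_pow, map_X, eval₂_pow, eval₂_X]
    obtain ⟨d', rfl⟩ := Nat.exists_eq_succ_of_ne_zero (by omega : d ≠ 0)
    exact IsIdempotentElem.pow_succ_eq d' hβidem
  have hh'β : Ideal.Quotient.mk (I.map (algebraMap A (A' ⊗[A] B)))
      (aeval ((1 : A') ⊗ₜ[A] b₀) h') *
      Ideal.Quotient.mk (I.map (algebraMap A (A' ⊗[A] B))) ((1 : A') ⊗ₜ[A] b₀) = 0 := by
    rw [heval, hhm, Polynomial.map_pow, Polynomial.map_sub, map_X, Polynomial.map_one, eval₂_pow,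
      eval₂_sub, eval₂_X, eval₂_one]
    obtain ⟨d', rfl⟩ := Nat.exists_eq_succ_of_ne_zero (by omega : d ≠ 0)
    rw [pow_succ, mul_assoc, sub_mul, one_mul, hβidem, sub_self, mul_zero]
  have hkey : Ideal.Quotient.mk (I.map (algebraMap A (A' ⊗[A] B)))
      (aeval ((1 : A') ⊗ₜ[A] b₀) (r * g')) =
      Ideal.Quotient.mk (I.map (algebraMap A (A' ⊗[A] B))) ((1 : A') ⊗ₜ[A] b₀) := by
    have h1 : Ideal.Quotient.mk (I.map (algebraMap A (A' ⊗[A] B)))
        (aeval ((1 : A') ⊗ₜ[A] b₀) (r * g' + t * h')) = 1 := by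
      rw [hrt, map_one, map_one]
    rw [map_add, map_mul, map_mul, map_add, map_mul, map_mul, hg'β] at h1
    rw [map_mul, map_mul, hg'β]
    have h2 := congrArg (· * Ideal.Quotient.mk (I.map (algebraMap A (A' ⊗[A] B)))
      ((1 : A') ⊗ₜ[A] b₀)) h1
    simp only [add_mul, one_mul] at h2
    rw [mul_assoc, hβidem, mul_assoc, hh'β, mul_zero, add_zero] at h2
    exact h2
  intro b hb
  have hbb : b₀ - b ∈ I.map (algebraMap A B) := by
    rw [← Ideal.Quotient.eq, hb₀, hb]
  have h3 : aeval ((1 : A') ⊗ₜ[A] b₀) (r * g') - (1 : A') ⊗ₜ[A] b =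
      (aeval ((1 : A') ⊗ₜ[A] b₀) (r * g') - (1 : A') ⊗ₜ[A] b₀) + (1 : A') ⊗ₜ[A] (b₀ - b) := by
    rw [TensorProduct.tmul_sub]
    ring
  rw [h3]
  refine Ideal.add_mem _ ?_ (one_tmul_mem_map I A' hbb)
  rw [← Ideal.Quotient.eq]
  exact hkey

end Main

end Groth.Agent.H14
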