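import Groth.Agent.H14.RegularCM
import Mathlib.RingTheory.LocalProperties.IntegrallyClosed

set_option autoImplicit false
set_option linter.style.haveILetI false
universe u

namespace Groth.Agent.H14

open IsLocalRing

/-- The local ring of `A/t` at a prime is the quotient of the local ring of `A` by `t`. -/
noncomputable def localizationQuotientSpanEquiv {A : Type u} [CommRing A] (t : A) (q : Ideal A)
    [q.IsPrime] (Q : Ideal (A ⧸ Ideal.span {t})) [Q.IsPrime]
    (hQ : Q.comap (Ideal.Quotient.mk (Ideal.span {t})) = q) :
    Localization.AtPrime Q ≃+*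
      (Localization.AtPrime q ⧸ Ideal.span {algebraMap A (Localization.AtPrime q) t}) := by
  have hmapspan : (Ideal.span {t}).map (algebraMap A (Localization.AtPrime q)) =
      Ideal.span {algebraMap A (Localization.AtPrime q) t} := by
    rw [Ideal.map_span, Set.image_singleton]
  haveI : Q.LiesOver q := ⟨hQ.symm⟩
  have hsub : Algebra.algebraMapSubmonoid (A ⧸ Ideal.span {t}) q.primeCompl = Q.primeCompl :=
    Ideal.algebraMapSubmonoid_primeCompl_of_liesOver_surjective Q q Ideal.Quotient.mk_surjective
  have hloc : IsLocalization (Algebra.algebraMapSubmonoid (A ⧸ Ideal.span {t}) q.primeCompl)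
      (Localization.AtPrime q ⧸ (Ideal.span {t}).map (algebraMap A (Localization.AtPrime q))) :=
    inferInstance
  rw [hsub] at hloc
  exact ((IsLocalization.algEquiv Q.primeCompl (Localization.AtPrime Q) _).toRingEquiv).trans
    (Ideal.quotEquivOfEq hmapspan)

/-- A hypersurface in a regular ring satisfies `(S_k)` for every `k` (it is Cohen–Macaulay). -/
theorem height_le_idealDepth_quotient_of_regular (A : Type u) [CommRing A] [IsNoetherianRing A]
    (hreg : ∀ (p : Ideal A) (_ : p.IsPrime), IsRegularLocalRing (Localization.AtPrime p))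
    (f : A) (q : Ideal (A ⧸ Ideal.span {f})) [q.IsPrime] :
    q.height ≤ LocCoh.idealDepth (maximalIdeal (Localization.AtPrime q))
      (Localization.AtPrime q) := by
  haveI hQ : (q.comap (Ideal.Quotient.mk (Ideal.span {f}))).IsPrime := Ideal.comap_isPrime _ _
  haveI := hreg _ hQ
  let e := localizationQuotientSpanEquiv f (q.comap (Ideal.Quotient.mk (Ideal.span {f}))) q rfl
  haveI : IsLocalRing (Localization.AtPrime (q.comap (Ideal.Quotient.mk (Ideal.span {f}))) ⧸
      Ideal.span {algebraMap A (Localization.AtPrime
        (q.comap (Ideal.Quotient.mk (Ideal.span {f})))) f}) := e.isLocalRing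
  have hfmem : algebraMap A (Localization.AtPrime (q.comap (Ideal.Quotient.mk (Ideal.span {f})))) f ∈
      maximalIdeal (Localization.AtPrime (q.comap (Ideal.Quotient.mk (Ideal.span {f})))) := by
    rw [← Localization.AtPrime.map_eq_maximalIdeal]
    apply Ideal.mem_map_of_mem
    rw [Ideal.mem_comap]
    have : Ideal.Quotient.mk (Ideal.span {f}) f = 0 :=
      Ideal.Quotient.eq_zero_iff_mem.mpr (Ideal.mem_span_singleton_self f)
    rw [this]
    exact Ideal.zero_mem _
  have h1 := ringKrullDim_le_idealDepth_quotient_of_isRegularLocalRing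
    (Localization.AtPrime (q.comap (Ideal.Quotient.mk (Ideal.span {f}))))
    (algebraMap A _ f) hfmem
  rw [← ringKrullDim_eq_of_ringEquiv e, ← idealDepth_maximalIdeal_le_of_ringEquiv e,
    IsLocalization.AtPrime.ringKrullDim_eq_height q (Localization.AtPrime q)] at h1
  exact_mod_cast h1

/-- S10834: an integral hypersurface in a regular ring is normal iff it is regular in codimension
one. -/
theorem isIntegrallyClosed_quotient_hypersurface_iff (A : Type u) [CommRing A]
    [IsNoetherianRing A]
    (hreg : ∀ (p : Ideal A) (_ : p.IsPrime), IsRegularLocalRing (Localization.AtPrime p))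
    (f : A) (hf : (Ideal.span ({f} : Set A)).IsPrime) :
    IsIntegrallyClosed (A ⧸ Ideal.span ({f} : Set A)) ↔
      ∀ q : PrimeSpectrum (A ⧸ Ideal.span ({f} : Set A)),
        ringKrullDim (Localization.AtPrime q.asIdeal) = 1 →
          IsRegularLocalRing (Localization.AtPrime q.asIdeal) := by
  haveI : IsDomain (A ⧸ Ideal.span ({f} : Set A)) := (Ideal.Quotient.isDomain_iff_prime _).mpr hf
  have hS2 : LocCoh.HasSk 2 (A ⧸ Ideal.span ({f} : Set A)) (A ⧸ Ideal.span ({f} : Set A)) := by
    rw [hasSk_self_iff]
    intro q hq
    exact le_trans (min_le_right _ _) (height_le_idealDepth_quotient_of_regular A hreg f q)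
  have hserre := serre_criterion_normal (A ⧸ Ideal.span ({f} : Set A))
  constructor
  · intro hic q hdim
    have hloc : ∀ (p : Ideal (A ⧸ Ideal.span ({f} : Set A))) [p.IsPrime],
        IsDomain (Localization.AtPrime p) ∧ IsIntegrallyClosed (Localization.AtPrime p) := by
      intro p hp
      exact ⟨inferInstance, isIntegrallyClosed_of_isLocalization (Localization.AtPrime p)
        p.primeCompl p.primeCompl_le_nonZeroDivisors⟩
    have hR1 := (hserre.mp hloc).1
    apply hR1 q.asIdeal
    rw [IsLocalization.AtPrime.ringKrullDim_eq_height q.asIdeal (Localization.AtPrime q.asIdeal)]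
      at hdim
    have : q.asIdeal.height = 1 := by exact_mod_cast hdim
    rw [this]
    norm_num
  · intro h
    have hR1 : LocCoh.HasRk 1 (A ⧸ Ideal.span ({f} : Set A)) := by
      intro q hq hht
      have hdim := IsLocalization.AtPrime.ringKrullDim_eq_height q (Localization.AtPrime q)
      by_cases h1 : q.height = 1
      · apply h ⟨q, hq⟩
        rw [hdim, h1]
        rfl
      · have h0 : q.height = 0 := by
          have hle : q.height ≤ 1 := by exact_mod_cast hht
          rcases Order.le_one_iff.mp hle with h0 | h1'
          · exact h0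
          · exact absurd h1' h1
        have hq0 : q = ⊥ := (Ideal.height_eq_zero_iff_eq_bot).mp h0
        apply IsRegularLocalRing.of_spanFinrank_maximalIdeal_le
        have hm : Ideal.map (algebraMap (A ⧸ Ideal.span ({f} : Set A)) (Localization.AtPrime q)) q
            = ⊥ := (Ideal.map_eq_bot_iff_le_ker _).mpr (hq0.le.trans bot_le)
        rw [← Localization.AtPrime.map_eq_maximalIdeal, hm, Submodule.spanFinrank_bot]
        exact ringKrullDim_nonneg_of_nontrivial
    have hloc := hserre.mpr ⟨hR1, hS2⟩
    apply IsIntegrallyClosed.of_localization_maximal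
    intro p _ hp
    haveI : p.IsPrime := hp.isPrime
    exact (hloc p).2

end Groth.Agent.H14
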