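import Groth.Agent.H14.RegularAscent
import Groth.Agent.H14.HypersurfaceNormal
import Groth.Prelude.Def_EGA4b

set_option autoImplicit false
set_option linter.style.haveILetI false
universe u

namespace Groth.Agent.H14

open IsLocalRing

theorem min_add_le (k a f : ℕ∞) : min k (a + f) ≤ min k a + min k f := by
  rcases le_total k a with h | h
  · rw [min_eq_left h]
    exact le_trans (min_le_left _ _) le_self_add
  · rcases le_total k f with h' | h'
    · rw [min_eq_left h']
      exact le_trans (min_le_left _ _) le_add_self
    · rw [min_eq_right h, min_eq_right h']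
      exact min_le_right _ _

/-- A Noetherian integrally closed local domain has depth at least `min(2, dim)`. -/
theorem min_two_height_le_idealDepth_of_isIntegrallyClosed (C : Type u) [CommRing C]
    [IsNoetherianRing C] [IsLocalRing C] [IsDomain C] [IsIntegrallyClosed C] :
    min (2 : ℕ∞) (maximalIdeal C).height ≤ LocCoh.idealDepth (maximalIdeal C) C := by
  have hS2 : LocCoh.HasSk 2 C C := Groth.Agent.H11.ReflS2.hasSk_two_self
  rw [hasSk_self_iff] at hS2
  have h3 := hS2 (maximalIdeal C)
  rw [← idealDepth_maximalIdeal_le_of_ringEquiv (localizationMaximalIdealEquiv C)] at h3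
  exact_mod_cast h3

/-- Localizations of a normal local domain `A_p` at smaller primes are normal domains. -/
theorem isDomain_isIntegrallyClosed_localization_of_le {A : Type u} [CommRing A] (p p' : Ideal A)
    [p.IsPrime] [hp' : p'.IsPrime] (h : p' ≤ p)
    [IsDomain (Localization.AtPrime p)] [IsIntegrallyClosed (Localization.AtPrime p)] :
    IsDomain (Localization.AtPrime p') ∧ IsIntegrallyClosed (Localization.AtPrime p') := by
  have hle : p.primeCompl ≤ p'.primeCompl := fun x hx hx' => hx (h hx')
  letI := IsLocalization.localizationAlgebraOfSubmonoidLe (Localization.AtPrime p)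
    (Localization.AtPrime p') p.primeCompl p'.primeCompl hle
  haveI := IsLocalization.localization_isScalarTower_of_submonoid_le (Localization.AtPrime p)
    (Localization.AtPrime p') p.primeCompl p'.primeCompl hle
  haveI hloc := IsLocalization.isLocalization_of_submonoid_le (Localization.AtPrime p)
    (Localization.AtPrime p') p.primeCompl p'.primeCompl hle
  have hnzd : p'.primeCompl.map (algebraMap A (Localization.AtPrime p)) ≤
      nonZeroDivisors (Localization.AtPrime p) := by
    rintro _ ⟨s, hs, rfl⟩
    rw [mem_nonZeroDivisors_iff_ne_zero]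
    intro h0
    obtain ⟨u, hu⟩ := (IsLocalization.map_eq_zero_iff p.primeCompl _ s).mp h0
    have hmem : (u : A) * s ∈ p' := by rw [hu]; exact p'.zero_mem
    rcases hp'.mem_or_mem hmem with h1 | h1
    · exact u.2 (h h1)
    · exact hs h1
  exact ⟨IsLocalization.isDomain_of_le_nonZeroDivisors _ hnzd,
    isIntegrallyClosed_of_isLocalization _ _ hnzd⟩

section Local

variable (A B : Type u) [CommRing A] [CommRing B] [Algebra A B]
  [IsNoetherianRing A] [IsLocalRing A] [IsNoetherianRing B] [IsLocalRing B]
  [IsLocalHom (algebraMap A B)] [Module.Flat A B]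

theorem height_maximalIdeal_eq_add_of_flat :
    (maximalIdeal B).height = (maximalIdeal A).height +
      (maximalIdeal (B ⧸ (maximalIdeal A).map (algebraMap A B))).height := by
  have h := H72.FlatCM.ringKrullDim_eq_add_of_flat (A := A) (B := B)
  rw [← IsLocalRing.maximalIdeal_height_eq_ringKrullDim,
    ← IsLocalRing.maximalIdeal_height_eq_ringKrullDim,
    ← IsLocalRing.maximalIdeal_height_eq_ringKrullDim] at h
  exact_mod_cast h

/-- `(S_2)` at the closed point ascends along a flat local homomorphism with normal fibre over a
normal base. -/
theorem min_two_height_le_idealDepth_of_flat_of_normal [IsDomain A] [IsIntegrallyClosed A]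
    [IsDomain (B ⧸ (maximalIdeal A).map (algebraMap A B))]
    [IsIntegrallyClosed (B ⧸ (maximalIdeal A).map (algebraMap A B))] :
    min (2 : ℕ∞) (maximalIdeal B).height ≤ LocCoh.idealDepth (maximalIdeal B) B := by
  have hd : LocCoh.idealDepth (maximalIdeal B) B = LocCoh.idealDepth (maximalIdeal A) A +
      LocCoh.idealDepth (maximalIdeal (B ⧸ (maximalIdeal A).map (algebraMap A B)))
        (B ⧸ (maximalIdeal A).map (algebraMap A B)) :=
    H72.FlatCM.depth_eq_add_of_flat (A := A) (B := B)
  rw [hd, height_maximalIdeal_eq_add_of_flat A B]
  exact le_trans (min_add_le _ _ _) (add_le_add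
    (min_two_height_le_idealDepth_of_isIntegrallyClosed A)
    (min_two_height_le_idealDepth_of_isIntegrallyClosed _))

/-- `(R_1)` at the closed point ascends along a flat local homomorphism with normal fibre over a
normal base. -/
theorem isRegularLocalRing_of_flat_of_normal_of_dim_le_one [IsDomain A] [IsIntegrallyClosed A]
    [IsDomain (B ⧸ (maximalIdeal A).map (algebraMap A B))]
    [IsIntegrallyClosed (B ⧸ (maximalIdeal A).map (algebraMap A B))]
    (h1 : (maximalIdeal B).height ≤ 1) : IsRegularLocalRing B := by
  rw [height_maximalIdeal_eq_add_of_flat A B] at h1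
  haveI : IsRegularLocalRing A :=
    isRegularLocalRing_of_isIntegrallyClosed_of_dim_le_one A (le_trans le_self_add h1)
  haveI : IsRegularLocalRing (B ⧸ (maximalIdeal A).map (algebraMap A B)) :=
    isRegularLocalRing_of_isIntegrallyClosed_of_dim_le_one _ (le_trans le_add_self h1)
  exact isRegularLocalRing_of_flat_of_regular_fibre A B

end Local

section Global

variable (A B : Type u) [CommRing A] [CommRing B] [IsNoetherianRing A] [IsNoetherianRing B]
  [Algebra A B] [Module.Flat A B]

/-- The `(R_1)` and `(S_2)` facts at a prime `q'` of `B` lying over a prime at which `A` is normal,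
when the fibre local ring at `q'` is normal. -/
theorem normal_flat_facts_at_prime
    (hfib : ∀ (q : Ideal B) [q.IsPrime], IsDomain (EGA4.FibLocRing A B q) ∧
      IsIntegrallyClosed (EGA4.FibLocRing A B q))
    (q' : Ideal B) [q'.IsPrime]
    [IsDomain (Localization.AtPrime (q'.comap (algebraMap A B)))]
    [IsIntegrallyClosed (Localization.AtPrime (q'.comap (algebraMap A B)))] :
    min (2 : ℕ∞) q'.height ≤ LocCoh.idealDepth (maximalIdeal (Localization.AtPrime q'))
      (Localization.AtPrime q') ∧
    (q'.height ≤ 1 → IsRegularLocalRing (Localization.AtPrime q')) := by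
  haveI : q'.LiesOver (q'.comap (algebraMap A B)) := ⟨rfl⟩
  letI := Localization.AtPrime.algebraOfLiesOver (q'.comap (algebraMap A B)) q'
  haveI : IsLocalHom (algebraMap (Localization.AtPrime (q'.comap (algebraMap A B)))
      (Localization.AtPrime q')) := by
    rw [RingHom.algebraMap_toAlgebra]
    exact Localization.isLocalHom_localRingHom _ q' (algebraMap A B) Ideal.LiesOver.over
  haveI : Module.Flat (Localization.AtPrime (q'.comap (algebraMap A B)))
      (Localization.AtPrime q') := inferInstance
  have hI : (maximalIdeal (Localization.AtPrime (q'.comap (algebraMap A B)))).map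
      (algebraMap (Localization.AtPrime (q'.comap (algebraMap A B))) (Localization.AtPrime q')) =
      (q'.comap (algebraMap A B)).map (algebraMap A (Localization.AtPrime q')) := by
    rw [← Localization.AtPrime.map_eq_maximalIdeal, Ideal.map_map, ← IsScalarTower.algebraMap_eq]
  let e' : (Localization.AtPrime q' ⧸
      (maximalIdeal (Localization.AtPrime (q'.comap (algebraMap A B)))).map
        (algebraMap (Localization.AtPrime (q'.comap (algebraMap A B))) (Localization.AtPrime q')))
      ≃+* EGA4.FibLocRing A B q' := Ideal.quotEquivOfEq hI
  haveI := (hfib q').1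
  haveI := (hfib q').2
  haveI : IsDomain (Localization.AtPrime q' ⧸
      (maximalIdeal (Localization.AtPrime (q'.comap (algebraMap A B)))).map
        (algebraMap (Localization.AtPrime (q'.comap (algebraMap A B))) (Localization.AtPrime q'))) :=
    e'.toMulEquiv.isDomain _
  haveI : IsIntegrallyClosed (Localization.AtPrime q' ⧸
      (maximalIdeal (Localization.AtPrime (q'.comap (algebraMap A B)))).map
        (algebraMap (Localization.AtPrime (q'.comap (algebraMap A B))) (Localization.AtPrime q'))) :=
    IsIntegrallyClosed.of_equiv e'.symm
  have hht : (maximalIdeal (Localization.AtPrime q')).height = q'.height := by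
    have h1 : ringKrullDim (Localization.AtPrime q') = q'.height :=
      IsLocalization.AtPrime.ringKrullDim_eq_height q' _
    rw [← IsLocalRing.maximalIdeal_height_eq_ringKrullDim] at h1
    exact_mod_cast h1
  rw [← hht]
  exact ⟨min_two_height_le_idealDepth_of_flat_of_normal
      (Localization.AtPrime (q'.comap (algebraMap A B))) (Localization.AtPrime q'),
    isRegularLocalRing_of_flat_of_normal_of_dim_le_one
      (Localization.AtPrime (q'.comap (algebraMap A B))) (Localization.AtPrime q')⟩

/-- S2611: normality ascends along a flat map of Noetherian rings with normal fibre local rings. -/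
theorem isIntegrallyClosed_of_fibres_normal_of_flat
    (hfib : ∀ (q : Ideal B) [q.IsPrime], IsDomain (EGA4.FibLocRing A B q) ∧
      IsIntegrallyClosed (EGA4.FibLocRing A B q))
    (q : Ideal B) [q.IsPrime]
    [IsDomain (Localization.AtPrime (q.comap (algebraMap A B)))]
    [IsIntegrallyClosed (Localization.AtPrime (q.comap (algebraMap A B)))] :
    IsDomain (Localization.AtPrime q) ∧ IsIntegrallyClosed (Localization.AtPrime q) := by
  -- facts at all primes of `B_q`
  have key : ∀ (Q' : Ideal (Localization.AtPrime q)) [Q'.IsPrime],
      min (2 : ℕ∞) Q'.height ≤ LocCoh.idealDepth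
        (maximalIdeal (Localization.AtPrime Q')) (Localization.AtPrime Q') ∧
      (Q'.height ≤ 1 → IsRegularLocalRing (Localization.AtPrime Q')) := by
    intro Q' hQ'
    have hht : (Q'.comap (algebraMap B (Localization.AtPrime q))).height = Q'.height :=
      IsLocalization.height_under q.primeCompl Q'
    have hle : Q'.comap (algebraMap B (Localization.AtPrime q)) ≤ q := by
      have h1 : Q' ≤ maximalIdeal (Localization.AtPrime q) := le_maximalIdeal hQ'.ne_top
      exact (Ideal.comap_mono h1).trans (Localization.AtPrime.under_maximalIdeal (I := q)).le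
    obtain ⟨hd, hic⟩ := isDomain_isIntegrallyClosed_localization_of_le
      (q.comap (algebraMap A B))
      ((Q'.comap (algebraMap B (Localization.AtPrime q))).comap (algebraMap A B))
      (Ideal.comap_mono hle)
    haveI := hd
    haveI := hic
    obtain ⟨h2, h1⟩ := normal_flat_facts_at_prime A B hfib
      (Q'.comap (algebraMap B (Localization.AtPrime q)))
    let e := (IsLocalization.localizationLocalizationAtPrimeIsoLocalization
      q.primeCompl Q').toRingEquiv
    rw [hht] at h2 h1
    refine ⟨?_, fun h => ?_⟩
    · rw [← idealDepth_maximalIdeal_le_of_ringEquiv e]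
      exact h2
    · haveI := h1 h
      exact IsRegularLocalRing.of_ringEquiv e
  apply isDomain_and_isIntegrallyClosed_of_R1_S2
  · intro Q' hQ' hht
    exact (key Q').2 (by exact_mod_cast hht)
  · rw [hasSk_self_iff]
    intro Q' hQ'
    exact_mod_cast (key Q').1

end Global

end Groth.Agent.H14
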