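import Groth.Agent.H14.SkLift
import Mathlib.RingTheory.Localization.LocalizationLocalization
import Mathlib.RingTheory.RegularLocalRing.Defs

set_option autoImplicit false
set_option linter.style.haveILetI false
universe u

namespace Groth.Agent.H14

/-- `(R_k)` passes to the localization at a prime. -/
theorem hasRk_localization (k : ℕ) (R : Type u) [CommRing R] (p : Ideal R) [p.IsPrime]
    (h : LocCoh.HasRk k R) : LocCoh.HasRk k (Localization.AtPrime p) := by
  intro P hP hPk
  have hht : (P.comap (algebraMap R (Localization.AtPrime p))).height = P.height :=
    IsLocalization.height_under p.primeCompl P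
  haveI := h (P.comap (algebraMap R (Localization.AtPrime p))) (hht.trans_le hPk)
  exact IsRegularLocalRing.of_ringEquiv
    (IsLocalization.localizationLocalizationAtPrimeIsoLocalization p.primeCompl P).toRingEquiv

/-- `(S_k)` for the ring in terms of heights and depths of the local rings. -/
theorem hasSk_self_iff (k : ℕ) (R : Type u) [CommRing R] :
    LocCoh.HasSk k R R ↔ ∀ (p : Ideal R) [p.IsPrime], min (k : ℕ∞) p.height ≤
      LocCoh.idealDepth (IsLocalRing.maximalIdeal (Localization.AtPrime p))
        (Localization.AtPrime p) := by
  rw [ZClos.hasSk_iff k (support_self_eq_univ R)]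
  refine forall_congr' fun p => forall_congr' fun hp => ?_
  rw [depth_localizedModule_self]

/-- `(S_k)` passes to the localization at a prime. -/
theorem hasSk_localization (k : ℕ) (R : Type u) [CommRing R] [IsNoetherianRing R] (p : Ideal R)
    [p.IsPrime] (h : LocCoh.HasSk k R R) :
    LocCoh.HasSk k (Localization.AtPrime p) (Localization.AtPrime p) := by
  rw [hasSk_self_iff] at h ⊢
  intro P hP
  have hht : (P.comap (algebraMap R (Localization.AtPrime p))).height = P.height :=
    IsLocalization.height_under p.primeCompl P
  have h1 := h (P.comap (algebraMap R (Localization.AtPrime p)))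
  rw [hht] at h1
  refine h1.trans (le_of_eq ?_)
  exact idealDepth_maximalIdeal_le_of_ringEquiv
    (IsLocalization.localizationLocalizationAtPrimeIsoLocalization p.primeCompl P).toRingEquiv

end Groth.Agent.H14
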