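import Groth.Agent.H14.SerreCrit
import Groth.Agent.H11.ReflS2
import Mathlib.RingTheory.DiscreteValuationRing.TFAE

set_option autoImplicit false
set_option linter.style.haveILetI false
universe u

namespace Groth.Agent.H14

/-- A Noetherian integrally closed local domain of dimension at most one is regular. -/
theorem isRegularLocalRing_of_isIntegrallyClosed_of_dim_le_one (C : Type u) [CommRing C]
    [IsNoetherianRing C] [IsLocalRing C] [IsDomain C] [IsIntegrallyClosed C]
    (hdim : (IsLocalRing.maximalIdeal C).height ≤ 1) : IsRegularLocalRing C := by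
  haveI : IsPrincipalIdealRing C := by
    have htfae := (tfae_of_isNoetherianRing_of_isLocalRing_of_isDomain C).out 0 3
    rw [htfae]
    refine ⟨inferInstance, fun P hP0 hPprime => ?_⟩
    by_contra hne
    have hlt : P < IsLocalRing.maximalIdeal C :=
      lt_of_le_of_ne (IsLocalRing.le_maximalIdeal hPprime.ne_top) hne
    have h1 : P.height + 1 ≤ (IsLocalRing.maximalIdeal C).height :=
      Ideal.height_add_one_le_of_lt_of_isPrime hlt
    have h2 : 1 ≤ P.height := by
      rw [Order.one_le_iff_ne_zero, Ne, Ideal.height_eq_zero_iff_eq_bot]
      exact hP0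
    have h3 : (1 : ℕ∞) + 1 ≤ 1 := le_trans (le_trans (add_le_add_left h2 1) h1) hdim
    norm_num at h3
  infer_instance

/-- The local ring `C` is its own localization at the maximal ideal. -/
noncomputable def localizationMaximalIdealEquiv (C : Type u) [CommRing C] [IsLocalRing C] :
    C ≃+* Localization.AtPrime (IsLocalRing.maximalIdeal C) :=
  (IsLocalization.atUnits C (IsLocalRing.maximalIdeal C).primeCompl (fun x hx => by
    rw [IsUnit.mem_submonoid_iff]
    exact IsLocalRing.notMem_maximalIdeal.mp hx)).toRingEquiv

/-- Serre's criterion for normality (S0601). -/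
theorem serre_criterion_normal (R : Type u) [CommRing R] [IsNoetherianRing R] :
    (∀ (p : Ideal R) [p.IsPrime], IsDomain (Localization.AtPrime p) ∧
      IsIntegrallyClosed (Localization.AtPrime p)) ↔ (LocCoh.HasRk 1 R ∧ LocCoh.HasSk 2 R R) := by
  constructor
  · intro h
    refine ⟨?_, ?_⟩
    · intro p hp hpk
      haveI := (h p).1
      haveI := (h p).2
      apply isRegularLocalRing_of_isIntegrallyClosed_of_dim_le_one
      have h1 : ringKrullDim (Localization.AtPrime p) = p.height :=
        IsLocalization.AtPrime.ringKrullDim_eq_height p _
      rw [← IsLocalRing.maximalIdeal_height_eq_ringKrullDim] at h1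
      have h2 : (IsLocalRing.maximalIdeal (Localization.AtPrime p)).height = p.height := by
        exact_mod_cast h1
      rw [h2]
      exact_mod_cast hpk
    · rw [hasSk_self_iff]
      intro p hp
      haveI := (h p).1
      haveI := (h p).2
      have hS2 : LocCoh.HasSk 2 (Localization.AtPrime p) (Localization.AtPrime p) :=
        Groth.Agent.H11.ReflS2.hasSk_two_self
      rw [hasSk_self_iff] at hS2
      have h3 := hS2 (IsLocalRing.maximalIdeal (Localization.AtPrime p))
      have h1 : ringKrullDim (Localization.AtPrime p) = p.height :=
        IsLocalization.AtPrime.ringKrullDim_eq_height p _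
      rw [← IsLocalRing.maximalIdeal_height_eq_ringKrullDim] at h1
      have h2 : (IsLocalRing.maximalIdeal (Localization.AtPrime p)).height = p.height := by
        exact_mod_cast h1
      rw [h2] at h3
      refine h3.trans (le_of_eq ?_)
      exact (idealDepth_maximalIdeal_le_of_ringEquiv
        (localizationMaximalIdealEquiv (Localization.AtPrime p))).symm
  · rintro ⟨hR, hS⟩ p hp
    exact isDomain_and_isIntegrallyClosed_of_R1_S2 (Localization.AtPrime p)
      (hasRk_localization 1 R p hR) (hasSk_localization 2 R p hS)

end Groth.Agent.H14
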