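import Groth.Prelude.Def_CAlg2
import Mathlib.RingTheory.Jacobson.Ring
import Mathlib.RingTheory.Ideal.GoingUp
import Mathlib.RingTheory.LocalRing.ResidueField.Ideal
import Mathlib.RingTheory.LocalRing.ResidueField.Basic
import Mathlib.FieldTheory.PurelyInseparable.Basic
import Mathlib.FieldTheory.IsSepClosed
import Mathlib.RingTheory.IntegralClosure.IsIntegralClosure.Basic

set_option autoImplicit false
set_option linter.style.haveILetI false
universe u

namespace Groth.Agent.H14

/-- Let `A` be a local ring whose residue field is integral over a separably closed field `k`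
(via `ι`), and `f : A → K'` an integral ring map to a field. Then every element of `K'` has a
`q^n`-th power in the range of `f`, `q` the characteristic exponent. -/
theorem exists_pow_mem_range_of_isSepClosed {k A K' : Type u} [Field k] [IsSepClosed k]
    [CommRing A] [IsLocalRing A] [Field K']
    (ι : k →+* IsLocalRing.ResidueField A) (hι : ι.IsIntegral)
    (f : A →+* K') (hf : f.IsIntegral) (x : K') :
    ∃ n : ℕ, x ^ (ringExpChar K') ^ n ∈ f.range := by
  -- `f` is local
  have hker : (Ideal.comap f ⊥).IsMaximal :=
    Ideal.isMaximal_comap_of_isIntegral_of_isMaximal' f hf ⊥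
  have hker' : Ideal.comap f ⊥ = IsLocalRing.maximalIdeal A := IsLocalRing.eq_maximalIdeal hker
  haveI hloc : IsLocalHom f := by
    refine ⟨fun a ha => ?_⟩
    by_contra hna
    have h1 : a ∈ IsLocalRing.maximalIdeal A := (IsLocalRing.mem_maximalIdeal a).mpr hna
    rw [← hker', Ideal.mem_comap, Ideal.mem_bot] at h1
    rw [h1] at ha
    exact not_isUnit_zero ha
  let fbar : IsLocalRing.ResidueField A →+* K' := IsLocalRing.ResidueField.lift f
  have hfbar : fbar.comp (IsLocalRing.residue A) = f := IsLocalRing.ResidueField.lift_comp_residue f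
  have hfbar_int : fbar.IsIntegral := by
    apply RingHom.IsIntegral.tower_top (IsLocalRing.residue A) fbar
    rw [hfbar]
    exact hf
  have hint : (fbar.comp ι).IsIntegral := RingHom.IsIntegral.trans ι fbar hι hfbar_int
  letI : Algebra k K' := (fbar.comp ι).toAlgebra
  haveI : Algebra.IsIntegral k K' := ⟨hint⟩
  haveI : Algebra.IsAlgebraic k K' := inferInstance
  haveI : IsPurelyInseparable k K' := inferInstance
  haveI : ExpChar K' (ringExpChar k) :=
    expChar_of_injective_algebraMap (algebraMap k K').injective (ringExpChar k)
  have hq : ringExpChar K' = ringExpChar k := ringExpChar.eq K' (ringExpChar k)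
  obtain ⟨n, y, hy⟩ := (isPurelyInseparable_iff_pow_mem k (ringExpChar k)).mp inferInstance x
  refine ⟨n, ?_⟩
  rw [hq, ← hy]
  obtain ⟨a, ha⟩ := IsLocalRing.residue_surjective (ι y)
  refine ⟨a, ?_⟩
  show f a = fbar (ι y)
  rw [← ha, ← hfbar]
  rfl

section

theorem isGeomUnibranch_of_isUnibranch_of_isSepClosed
    (k S : Type u) [Field k] [IsSepClosed k] [CommRing S] [Algebra k S]
    [Algebra.FiniteType k S] (m : Ideal S) [m.IsMaximal]
    (h : CAlg2.IsUnibranch (Localization.AtPrime m)) :
    CAlg2.IsGeomUnibranch (Localization.AtPrime m) := by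
  refine ⟨h, ?_⟩
  intro m' hm'
  letI : Field (CAlg2.normRed (Localization.AtPrime m) ⧸ m') := Ideal.Quotient.field m'
  -- the residue field of `S_m` is integral over `k`
  letI : Field (S ⧸ m) := Ideal.Quotient.field m
  haveI : Module.Finite k (S ⧸ m) := finite_of_finite_type_of_isJacobsonRing k (S ⧸ m)
  have hι : ((algebraMap (S ⧸ m) m.ResidueField).comp (algebraMap k (S ⧸ m))).IsIntegral := by
    apply RingHom.IsIntegral.trans
    · exact algebraMap_isIntegral_iff.mpr inferInstance
    · exact RingHom.isIntegral_of_surjective _
        (Ideal.bijective_algebraMap_quotient_residueField m).surjective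
  intro x
  refine exists_pow_mem_range_of_isSepClosed (k := k) (A := Localization.AtPrime m)
    ((algebraMap (S ⧸ m) m.ResidueField).comp (algebraMap k (S ⧸ m))) hι _ ?_ x
  -- integrality of `f`
  apply RingHom.IsIntegral.trans
  · apply RingHom.IsIntegral.trans
    · exact RingHom.isIntegral_of_surjective _ Ideal.Quotient.mk_surjective
    · exact algebraMap_isIntegral_iff.mpr inferInstance
  · exact RingHom.isIntegral_of_surjective _ Ideal.Quotient.mk_surjective

end

end Groth.Agent.H14
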