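import Mathlib.RingTheory.IntegralClosure.IsIntegral.AlmostIntegral
import Mathlib.RingTheory.IntegralClosure.IntegrallyClosed
import Mathlib.RingTheory.Filtration
import Mathlib.RingTheory.LocalRing.MaximalIdeal.Basic
import Mathlib.RingTheory.Ideal.Quotient.Operations
import Mathlib.Algebra.Prime.Lemmas
import Mathlib.RingTheory.Ideal.Quotient.Noetherian

set_option autoImplicit false
set_option linter.style.haveILetI false
universe u

namespace Groth.Agent.H14

open IsLocalRing

section Basic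

variable {A : Type u} [CommRing A] [IsNoetherianRing A] [IsLocalRing A] {t : A}

omit [IsNoetherianRing A] in
theorem span_singleton_ne_top_of_mem_maximalIdeal (ht : t ∈ maximalIdeal A) :
    Ideal.span {t} ≠ ⊤ := by
  intro htop
  have h1 : Ideal.span {t} ≤ maximalIdeal A := (Ideal.span_singleton_le_iff_mem _).mpr ht
  exact (maximalIdeal.isMaximal A).ne_top (top_le_iff.mp (htop ▸ h1))

theorem eq_zero_of_forall_pow_dvd (ht : t ∈ maximalIdeal A) {a : A} (h : ∀ n, t ^ n ∣ a) :
    a = 0 := by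
  have h1 : (⨅ i : ℕ, (Ideal.span {t}) ^ i) = ⊥ :=
    Ideal.iInf_pow_eq_bot_of_isLocalRing _ (span_singleton_ne_top_of_mem_maximalIdeal ht)
  have h2 : a ∈ (⨅ i : ℕ, (Ideal.span {t}) ^ i) := by
    rw [Submodule.mem_iInf]
    intro n
    rw [Ideal.span_singleton_pow, Ideal.mem_span_singleton]
    exact h n
  rw [h1] at h2
  exact h2

theorem exists_eq_pow_mul_not_dvd (ht : t ∈ maximalIdeal A) {a : A} (ha : a ≠ 0) :
    ∃ (n : ℕ) (a' : A), a = t ^ n * a' ∧ ¬ t ∣ a' := by
  classical
  have hex : ∃ n, ¬ t ^ (n + 1) ∣ a := by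
    by_contra hcon
    push Not at hcon
    apply ha
    apply eq_zero_of_forall_pow_dvd ht
    intro n
    cases n with
    | zero => simp
    | succ n => exact hcon n
  obtain ⟨n, hn, hmin⟩ : ∃ n, ¬ t ^ (n + 1) ∣ a ∧ ∀ m < n, t ^ (m + 1) ∣ a :=
    ⟨Nat.find hex, Nat.find_spec hex, fun m hm => not_not.mp (Nat.find_min hex hm)⟩
  have hn' : t ^ n ∣ a := by
    cases n with
    | zero => simp
    | succ m => exact hmin m (Nat.lt_succ_self m)
  obtain ⟨a', rfl⟩ := hn'
  refine ⟨n, a', rfl, fun hdiv => hn ?_⟩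
  rw [pow_succ]
  exact mul_dvd_mul_left _ hdiv

theorem isDomain_of_prime_span (ht : t ∈ maximalIdeal A) (hreg : t ∈ nonZeroDivisors A)
    (hp : (Ideal.span {t}).IsPrime) : IsDomain A := by
  haveI : NoZeroDivisors A := ⟨by
    intro a b hab
    by_contra hcon
    push Not at hcon
    obtain ⟨i, a', rfl, ha'⟩ := exists_eq_pow_mul_not_dvd ht hcon.1
    obtain ⟨j, b', rfl, hb'⟩ := exists_eq_pow_mul_not_dvd ht hcon.2
    have h1 : t ^ (i + j) * (a' * b') = 0 := by rw [← hab]; ring
    have hmem : t ^ (i + j) ∈ nonZeroDivisors A := pow_mem hreg _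
    have h2 : a' * b' = 0 := (mem_nonZeroDivisors_iff.mp hmem).1 _ h1
    have h3 : a' * b' ∈ Ideal.span {t} := by rw [h2]; exact Ideal.zero_mem _
    rcases hp.mem_or_mem h3 with h | h
    · exact ha' (Ideal.mem_span_singleton.mp h)
    · exact hb' (Ideal.mem_span_singleton.mp h)⟩
  exact NoZeroDivisors.to_isDomain A

end Basic

section PR

/-- In a Noetherian integrally closed domain, `D ^ n ∣ D * a ^ n` for all `n` forces `D ∣ a`
(complete integral closedness, in divisibility form). -/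
theorem dvd_of_forall_pow_dvd_of_isIntegrallyClosed {R : Type u} [CommRing R] [IsDomain R]
    [IsNoetherianRing R] [IsIntegrallyClosed R] {a D : R} (hD : D ≠ 0)
    (h : ∀ n, D ^ n ∣ D * a ^ n) : D ∣ a := by
  have hDK : algebraMap R (FractionRing R) D ≠ 0 :=
    IsFractionRing.to_map_ne_zero_of_mem_nonZeroDivisors (mem_nonZeroDivisors_of_ne_zero hD)
  have hai : IsAlmostIntegral R
      (algebraMap R (FractionRing R) a / algebraMap R (FractionRing R) D) := by
    refine ⟨D, mem_nonZeroDivisors_of_ne_zero hD, fun n => ?_⟩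
    obtain ⟨c, hc⟩ := h n
    refine ⟨c, ?_⟩
    have h1 : algebraMap R (FractionRing R) D * algebraMap R (FractionRing R) a ^ n =
        algebraMap R (FractionRing R) D ^ n * algebraMap R (FractionRing R) c := by
      rw [← map_pow, ← map_pow, ← map_mul, ← map_mul, hc]
    rw [Algebra.smul_def, div_pow]
    have hDn : algebraMap R (FractionRing R) D ^ n ≠ 0 := pow_ne_zero _ hDK
    field_simp
    linear_combination -h1
  have hint : IsIntegral R
      (algebraMap R (FractionRing R) a / algebraMap R (FractionRing R) D) := hai.isIntegral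
  obtain ⟨e, he⟩ := IsIntegrallyClosed.isIntegral_iff.mp hint
  refine ⟨e, ?_⟩
  apply IsFractionRing.injective R (FractionRing R)
  rw [map_mul, he]
  field_simp

end PR

section Main

variable {A : Type u} [CommRing A] [IsDomain A] {t : A}

omit [IsDomain A] in
theorem bdd_add_mul {D a b : A} (h : ∀ n, D ^ n ∣ D * a ^ n) :
    ∀ n, D ^ n ∣ D * (a + D * b) ^ n := by
  intro n
  rw [add_pow, Finset.mul_sum]
  apply Finset.dvd_sum
  intro m hm
  have hmn : m ≤ n := Nat.lt_succ_iff.mp (Finset.mem_range.mp hm)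
  obtain ⟨c, hc⟩ := h m
  refine ⟨c * b ^ (n - m) * (n.choose m : A), ?_⟩
  have h1 : D ^ n = D ^ m * D ^ (n - m) := by rw [← pow_add, Nat.add_sub_cancel' hmn]
  rw [h1, mul_pow]
  linear_combination (D ^ (n - m) * b ^ (n - m) * (n.choose m : A)) * hc

theorem bdd_of_bdd_mul (hprime : Prime t) {D a : A} (hD : ¬ t ∣ D)
    (h : ∀ n, D ^ n ∣ D * (t * a) ^ n) : ∀ n, D ^ n ∣ D * a ^ n := by
  intro n
  obtain ⟨u, hu⟩ := h n
  have h1 : t ^ n ∣ u * D ^ n := ⟨D * a ^ n, by rw [mul_comm u, ← hu]; ring⟩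
  have h2 : ¬ t ∣ D ^ n := fun hdiv => hD (hprime.dvd_of_dvd_pow hdiv)
  obtain ⟨u', rfl⟩ := hprime.pow_dvd_of_dvd_mul_right n h2 h1
  refine ⟨u', ?_⟩
  have ht0 : t ^ n ≠ 0 := pow_ne_zero _ hprime.ne_zero
  apply mul_left_cancel₀ ht0
  rw [mul_pow] at hu
  linear_combination hu

variable (hprime : Prime t)
  (hP : ∀ (a D : A ⧸ Ideal.span {t}), D ≠ 0 → (∀ n, D ^ n ∣ D * a ^ n) → D ∣ a)

include hprime hP

theorem exists_decomp {D a : A} (hD : ¬ t ∣ D) (h : ∀ n, D ^ n ∣ D * a ^ n) :
    ∃ a₁ a₂ : A, a = D * a₁ + t * a₂ ∧ ∀ n, D ^ n ∣ D * a₂ ^ n := by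
  have hDbar : Ideal.Quotient.mk (Ideal.span {t}) D ≠ 0 := by
    rw [Ne, Ideal.Quotient.eq_zero_iff_mem, Ideal.mem_span_singleton]
    exact hD
  have hbar : ∀ n, (Ideal.Quotient.mk (Ideal.span {t}) D) ^ n ∣
      Ideal.Quotient.mk (Ideal.span {t}) D * (Ideal.Quotient.mk (Ideal.span {t}) a) ^ n := by
    intro n
    have := map_dvd (Ideal.Quotient.mk (Ideal.span {t})) (h n)
    simpa using this
  obtain ⟨ebar, he⟩ := hP _ _ hDbar hbar
  obtain ⟨a₁, rfl⟩ := Ideal.Quotient.mk_surjective ebar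
  rw [← map_mul, Ideal.Quotient.eq, Ideal.mem_span_singleton] at he
  obtain ⟨a₂, ha₂⟩ := he
  refine ⟨a₁, a₂, by linear_combination ha₂, ?_⟩
  apply bdd_of_bdd_mul hprime hD
  rw [← ha₂]
  have := bdd_add_mul (b := -a₁) h
  simpa [sub_eq_add_neg] using this

theorem exists_decomp_pow {D : A} (hD : ¬ t ∣ D) :
    ∀ (n : ℕ) (a : A), (∀ k, D ^ k ∣ D * a ^ k) →
      ∃ b c : A, a = D * b + t ^ n * c ∧ ∀ k, D ^ k ∣ D * c ^ k := by
  intro n
  induction n with
  | zero => exact fun a h => ⟨0, a, by ring, h⟩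
  | succ n ih =>
    intro a h
    obtain ⟨b, c, rfl, hc⟩ := ih a h
    obtain ⟨c₁, c₂, rfl, hc₂⟩ := exists_decomp hprime hP hD hc
    exact ⟨b + t ^ n * c₁, c₂, by ring, hc₂⟩

theorem dvd_of_bdd [IsNoetherianRing A] [IsLocalRing A] (ht : t ∈ maximalIdeal A) {D a : A}
    (hD : ¬ t ∣ D) (h : ∀ n, D ^ n ∣ D * a ^ n) : D ∣ a := by
  have hK : (⨅ i : ℕ, (Ideal.span {t}) ^ i • (⊤ : Submodule A (A ⧸ Ideal.span {D}))) = ⊥ :=
    Ideal.iInf_pow_smul_eq_bot_of_isLocalRing (Ideal.span {t})
      (span_singleton_ne_top_of_mem_maximalIdeal ht)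
  have hmem : (Ideal.Quotient.mk (Ideal.span {D}) a) ∈
      (⨅ i : ℕ, (Ideal.span {t}) ^ i • (⊤ : Submodule A (A ⧸ Ideal.span {D}))) := by
    rw [Submodule.mem_iInf]
    intro n
    obtain ⟨b, c, rfl, -⟩ := exists_decomp_pow hprime hP hD n a h
    have h1 : Ideal.Quotient.mk (Ideal.span {D}) (D * b + t ^ n * c) =
        (t ^ n) • Ideal.Quotient.mk (Ideal.span {D}) c := by
      rw [map_add, Ideal.Quotient.eq_zero_iff_mem.mpr
        (Ideal.mul_mem_right _ _ (Ideal.mem_span_singleton_self D)), zero_add, map_mul]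
      rfl
    rw [h1]
    exact Submodule.smul_mem_smul (Ideal.pow_mem_pow (Ideal.mem_span_singleton_self t) n)
      Submodule.mem_top
  rw [hK, Submodule.mem_bot, Ideal.Quotient.eq_zero_iff_mem, Ideal.mem_span_singleton] at hmem
  exact hmem

omit hP in
theorem mem_range_of_isAlmostIntegral_of_pow_mul_mem [IsNoetherianRing A] [IsLocalRing A]
    (ht : t ∈ maximalIdeal A) :
    ∀ (e : ℕ) {w : FractionRing A}, IsAlmostIntegral A w →
      algebraMap A (FractionRing A) (t ^ e) * w ∈ (algebraMap A (FractionRing A)).range →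
      w ∈ (algebraMap A (FractionRing A)).range := by
  intro e
  induction e with
  | zero =>
    intro w _ hmem
    simpa using hmem
  | succ e ih =>
    intro w hw hmem
    have hw' : IsAlmostIntegral A (algebraMap A (FractionRing A) t * w) :=
      (completeIntegralClosure A (FractionRing A)).mul_mem
        (Subalgebra.algebraMap_mem _ t) hw
    have h1 : algebraMap A (FractionRing A) t * w ∈ (algebraMap A (FractionRing A)).range := by
      apply ih hw'
      convert hmem using 1
      rw [pow_succ, map_mul]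
      ring
    obtain ⟨c, hc⟩ := h1
    obtain ⟨r, hr, hr'⟩ := hw
    have hdvd : ∀ k, t ^ k ∣ r * c ^ k := by
      intro k
      obtain ⟨s, hs⟩ := hr' k
      refine ⟨s, ?_⟩
      apply IsFractionRing.injective A (FractionRing A)
      rw [map_mul, map_pow, hc, map_mul, map_pow, hs, Algebra.smul_def]
      ring
    have htc : t ∣ c := by
      by_contra hnot
      have h2 : ∀ k, t ^ k ∣ r := fun k =>
        hprime.pow_dvd_of_dvd_mul_right k (fun hd => hnot (hprime.dvd_of_dvd_pow hd)) (hdvd k)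
      exact (nonZeroDivisors.ne_zero hr) (eq_zero_of_forall_pow_dvd ht h2)
    obtain ⟨c', rfl⟩ := htc
    refine ⟨c', ?_⟩
    have ht0 : algebraMap A (FractionRing A) t ≠ 0 :=
      IsFractionRing.to_map_ne_zero_of_mem_nonZeroDivisors
        (mem_nonZeroDivisors_of_ne_zero hprime.ne_zero)
    apply mul_left_cancel₀ ht0
    rw [← map_mul, hc]

theorem isIntegrallyClosed_of_quotient [IsNoetherianRing A] [IsLocalRing A]
    (ht : t ∈ maximalIdeal A) : IsIntegrallyClosed A := by
  refine (isIntegrallyClosed_iff (FractionRing A)).mpr ?_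
  intro x hx
  have hai : IsAlmostIntegral A x := hx.isAlmostIntegral
  obtain ⟨r, hr, hr'⟩ := hai
  have hr0 : r ≠ 0 := nonZeroDivisors.ne_zero hr
  obtain ⟨e, D, rfl, hD⟩ := exists_eq_pow_mul_not_dvd ht hr0
  have hbd : ∀ n, algebraMap A (FractionRing A) D * x ^ n ∈
      (algebraMap A (FractionRing A)).range := by
    intro n
    apply mem_range_of_isAlmostIntegral_of_pow_mul_mem hprime ht e
    · exact (completeIntegralClosure A (FractionRing A)).mul_mem
        (Subalgebra.algebraMap_mem _ D)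
        (Subalgebra.pow_mem _ (show x ∈ completeIntegralClosure A (FractionRing A) from
          ⟨_, hr, hr'⟩) n)
    · obtain ⟨s, hs⟩ := hr' n
      refine ⟨s, ?_⟩
      rw [hs, Algebra.smul_def, map_mul]
      ring
  choose c hc using hbd
  have hbdd : ∀ n, D ^ n ∣ D * (c 1) ^ n := by
    intro n
    refine ⟨c n, ?_⟩
    apply IsFractionRing.injective A (FractionRing A)
    simp only [map_mul, map_pow, hc]
    ring
  obtain ⟨e', he'⟩ := dvd_of_bdd hprime hP ht hD hbdd
  refine ⟨e', ?_⟩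
  have hD0 : algebraMap A (FractionRing A) D ≠ 0 := by
    apply IsFractionRing.to_map_ne_zero_of_mem_nonZeroDivisors
    apply mem_nonZeroDivisors_of_ne_zero
    rintro rfl
    exact hD (dvd_zero t)
  apply mul_left_cancel₀ hD0
  rw [← map_mul, ← he', hc 1, pow_one]

end Main

/-- S2661: if `A/tA` is an integrally closed domain (`t` a non-zero-divisor in the maximal ideal
of the Noetherian local ring `A`), then so is `A`. -/
theorem isDomain_and_isIntegrallyClosed_of_quotient (A : Type u) [CommRing A] [IsNoetherianRing A]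
    [IsLocalRing A] (t : A) (ht : t ∈ maximalIdeal A) (hreg : t ∈ nonZeroDivisors A)
    [IsDomain (A ⧸ Ideal.span {t})] [IsIntegrallyClosed (A ⧸ Ideal.span {t})] :
    IsDomain A ∧ IsIntegrallyClosed A := by
  have hp : (Ideal.span {t}).IsPrime := (Ideal.Quotient.isDomain_iff_prime _).mp inferInstance
  haveI hdom : IsDomain A := isDomain_of_prime_span ht hreg hp
  have ht0 : t ≠ 0 := nonZeroDivisors.ne_zero hreg
  have hprime : Prime t := (Ideal.span_singleton_prime ht0).mp hp
  exact ⟨hdom, isIntegrallyClosed_of_quotient hprime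
    (fun a D hD h => dvd_of_forall_pow_dvd_of_isIntegrallyClosed hD h) ht⟩

end Groth.Agent.H14
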