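import Groth.Agent.H14.SkDescent
import Mathlib.RingTheory.Unramified.LocalStructure
import Mathlib.RingTheory.Smooth.Flat
import Mathlib.RingTheory.Regular.Flat

set_option autoImplicit false
set_option linter.style.haveILetI false
universe u

open RingTheory.Sequence TensorProduct

namespace Groth.Agent.H14

/-- Depth does not go down along a flat local homomorphism. -/
theorem idealDepth_le_of_flat_of_isLocalHom (A B : Type u) [CommRing A] [CommRing B] [Algebra A B]
    [IsLocalRing A] [IsLocalRing B] [Module.Flat A B] [IsLocalHom (algebraMap A B)] :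
    LocCoh.idealDepth (IsLocalRing.maximalIdeal A) A ≤
      LocCoh.idealDepth (IsLocalRing.maximalIdeal B) B := by
  rw [← ENat.forall_natCast_le_iff_le]
  intro n hn
  obtain ⟨rs, hlen, hmem, hreg⟩ :=
    D15.exists_isRegular_of_le_idealDepth _ A (maximalIdeal_smul_top_ne_top A) n hn
  have hJle : (IsLocalRing.maximalIdeal A).map (algebraMap A B) ≤ IsLocalRing.maximalIdeal B :=
    ((IsLocalRing.local_hom_TFAE (algebraMap A B)).out 0 2).mp ‹_›
  have h1 : IsWeaklyRegular B (rs.map (algebraMap A B)) := hreg.toIsWeaklyRegular.of_flat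
  have h2 := D15.le_idealDepth (IsLocalRing.maximalIdeal B) B h1 (by
    intro r hr
    obtain ⟨a, ha, rfl⟩ := List.mem_map.mp hr
    exact hJle (Ideal.mem_map_of_mem _ (hmem a ha)))
  rwa [List.length_map, hlen] at h2

/-- S0785: depth is invariant along an étale local homomorphism. -/
theorem depth_eq_of_etale_localRingHom (A B : Type u) [CommRing A] [CommRing B] [IsLocalRing A]
    [IsLocalRing B]
    [IsNoetherianRing A] [IsNoetherianRing B] [Algebra A B] [IsLocalHom (algebraMap A B)]
    (E : Type u) [CommRing E] [Algebra A E] [Algebra.Etale A E] (P : Ideal E) [P.IsPrime]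
    [Algebra E B] [IsScalarTower A E B] [IsLocalization.AtPrime B P] :
    LocCoh.depth A A = LocCoh.depth B B := by
  haveI : Module.Flat E B := IsLocalization.flat B P.primeCompl
  haveI : Module.Flat A B := Module.Flat.trans A E B
  haveI : Algebra.QuasiFinite A E := inferInstance
  have hJle : (IsLocalRing.maximalIdeal A).map (algebraMap A B) ≤ IsLocalRing.maximalIdeal B :=
    ((IsLocalRing.local_hom_TFAE (algebraMap A B)).out 0 2).mp ‹_›
  have hcomap : (IsLocalRing.maximalIdeal B).comap (algebraMap A B) = IsLocalRing.maximalIdeal A :=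
    ((IsLocalRing.local_hom_TFAE (algebraMap A B)).out 0 4).mp ‹_›
  have hPunder : P.under A = IsLocalRing.maximalIdeal A := by
    have h := IsLocalization.AtPrime.under_maximalIdeal B P
    rw [← h, Ideal.under_def, Ideal.under_def, Ideal.comap_comap,
      ← IsScalarTower.algebraMap_eq, hcomap]
  apply le_antisymm (idealDepth_le_of_flat_of_isLocalHom A B)
  apply idealDepth_le_of_flat_of_zeroLocus
  apply le_antisymm
  · intro Q' hQ'
    rw [PrimeSpectrum.mem_zeroLocus] at hQ' ⊢
    have hQ'le : Q'.asIdeal ≤ IsLocalRing.maximalIdeal B :=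
      IsLocalRing.le_maximalIdeal Q'.2.ne_top
    have hQle : Q'.asIdeal.comap (algebraMap E B) ≤ P :=
      (Ideal.comap_mono hQ'le).trans (IsLocalization.AtPrime.under_maximalIdeal B P).le
    have hQunder : (Q'.asIdeal.comap (algebraMap E B)).under A = IsLocalRing.maximalIdeal A := by
      symm
      apply (IsLocalRing.maximalIdeal.isMaximal A).eq_of_le Ideal.IsPrime.ne_top'
      intro a ha
      rw [Ideal.under_def, Ideal.mem_comap, Ideal.mem_comap, ← IsScalarTower.algebraMap_apply]
      exact hQ' (Ideal.mem_map_of_mem _ ha)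
    have hQP : Q'.asIdeal.comap (algebraMap E B) = P :=
      Algebra.QuasiFinite.eq_of_le_of_under_eq (R := A) _ _ hQle (hQunder.trans hPunder.symm)
    rw [SetLike.coe_subset_coe, ← IsLocalization.AtPrime.map_eq_maximalIdeal P B, ← hQP]
    exact Ideal.map_comap_le
  · exact PrimeSpectrum.zeroLocus_anti_mono hJle

end Groth.Agent.H14
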