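import Mathlib.RingTheory.Kaehler.Basic
import Mathlib.RingTheory.TensorProduct.Basic
import Groth.Prelude.Def_DiffOp
import Mathlib.Algebra.BigOperators.Group.Finset.Basic

set_option autoImplicit false
universe u v

namespace Groth.Agent.H14

open Diff16

section

variable (A B : Type u) [CommRing A] [CommRing B] [Algebra A B]
variable (M N : Type v) [AddCommGroup M] [Module A M] [Module B M] [IsScalarTower A B M]
  [AddCommGroup N] [Module A N] [Module B N] [IsScalarTower A B N]

@[simp]
theorem commutator_apply (D : M →ₗ[A] N) (b : B) (m : M) :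
    Diff16.commutator A B M N D b m = D (b • m) - b • D m := by
  simp [Diff16.commutator]

theorem commutator_zero_map (b : B) : Diff16.commutator A B M N 0 b = 0 := by
  ext m; simp

theorem commutator_add_map (D D' : M →ₗ[A] N) (b : B) :
    Diff16.commutator A B M N (D + D') b = Diff16.commutator A B M N D b + Diff16.commutator A B M N D' b := by
  ext m; simp [smul_add]; abel

theorem commutator_neg_map (D : M →ₗ[A] N) (b : B) :
    Diff16.commutator A B M N (-D) b = -Diff16.commutator A B M N D b := by
  ext m; simp [smul_neg]; abel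

theorem commutator_sub_map (D D' : M →ₗ[A] N) (b : B) :
    Diff16.commutator A B M N (D - D') b = Diff16.commutator A B M N D b - Diff16.commutator A B M N D' b := by
  ext m; simp [smul_sub]; abel

theorem isDiffOpLE_zero_map (n : ℕ) : IsDiffOpLE A B M N n 0 := by
  induction n with
  | zero => intro b m; simp
  | succ n ih =>
    intro b
    rw [commutator_zero_map]
    exact ih

theorem isDiffOpLE_succ_of_le {n : ℕ} {D : M →ₗ[A] N} (h : IsDiffOpLE A B M N n D) :
    IsDiffOpLE A B M N (n + 1) D := by
  induction n generalizing D with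
  | zero =>
    intro b
    have : Diff16.commutator A B M N D b = 0 := by
      ext m
      simp [h b m]
    rw [this]
    exact isDiffOpLE_zero_map A B M N 0
  | succ n ih =>
    intro b
    exact ih (h b)

theorem isDiffOpLE_mono {n m : ℕ} (hnm : n ≤ m) {D : M →ₗ[A] N} (h : IsDiffOpLE A B M N n D) :
    IsDiffOpLE A B M N m D := by
  induction hnm with
  | refl => exact h
  | step _ ih => exact isDiffOpLE_succ_of_le A B M N ih

theorem isDiffOpLE_add {n : ℕ} {D D' : M →ₗ[A] N} (h : IsDiffOpLE A B M N n D)
    (h' : IsDiffOpLE A B M N n D') : IsDiffOpLE A B M N n (D + D') := by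
  induction n generalizing D D' with
  | zero =>
    intro b m
    simp [h b m, h' b m, smul_add]
  | succ n ih =>
    intro b
    rw [commutator_add_map]
    exact ih (h b) (h' b)

theorem isDiffOpLE_neg {n : ℕ} {D : M →ₗ[A] N} (h : IsDiffOpLE A B M N n D) :
    IsDiffOpLE A B M N n (-D) := by
  induction n generalizing D with
  | zero =>
    intro b m
    simp [h b m, smul_neg]
  | succ n ih =>
    intro b
    rw [commutator_neg_map]
    exact ih (h b)

theorem isDiffOpLE_sub {n : ℕ} {D D' : M →ₗ[A] N} (h : IsDiffOpLE A B M N n D)
    (h' : IsDiffOpLE A B M N n D') : IsDiffOpLE A B M N n (D - D') := by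
  rw [sub_eq_add_neg]
  exact isDiffOpLE_add A B M N h (isDiffOpLE_neg A B M N h')

end

section Comp

variable (A B : Type u) [CommRing A] [CommRing B] [Algebra A B]
variable (M N P : Type v) [AddCommGroup M] [Module A M] [Module B M] [IsScalarTower A B M]
  [AddCommGroup N] [Module A N] [Module B N] [IsScalarTower A B N]
  [AddCommGroup P] [Module A P] [Module B P] [IsScalarTower A B P]

theorem commutator_comp (D : M →ₗ[A] N) (D' : N →ₗ[A] P) (b : B) :
    Diff16.commutator A B M P (D' ∘ₗ D) b =
      D' ∘ₗ Diff16.commutator A B M N D b + Diff16.commutator A B N P D' b ∘ₗ D := by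
  ext m
  simp

theorem isDiffOpLE_comp_aux (k : ℕ) : ∀ (n n' : ℕ), n + n' = k → ∀ (D : M →ₗ[A] N) (D' : N →ₗ[A] P),
    IsDiffOpLE A B M N n D → IsDiffOpLE A B N P n' D' →
    IsDiffOpLE A B M P (n + n') (D' ∘ₗ D) := by
  induction k with
  | zero =>
    intro n n' hk D D' hD hD'
    obtain ⟨rfl, rfl⟩ : n = 0 ∧ n' = 0 := by omega
    intro b m
    simp [hD b m, hD' b (D m)]
  | succ k ih =>
    intro n n' hk D D' hD hD'
    rw [hk]
    intro b
    rw [commutator_comp]
    apply isDiffOpLE_add
    · -- D' ∘ [D, b]
      cases n with
      | zero =>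
        have : Diff16.commutator A B M N D b = 0 := by
          ext m
          simp [hD b m]
        rw [this, LinearMap.comp_zero]
        exact isDiffOpLE_zero_map A B M P k
      | succ n =>
        have := ih n n' (by omega) (Diff16.commutator A B M N D b) D' (hD b) hD'
        have hk' : n + n' = k := by omega
        rwa [hk'] at this
    · cases n' with
      | zero =>
        have : Diff16.commutator A B N P D' b = 0 := by
          ext m
          simp [hD' b m]
        rw [this, LinearMap.zero_comp]
        exact isDiffOpLE_zero_map A B M P k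
      | succ n' =>
        have := ih n n' (by omega) D (Diff16.commutator A B N P D' b) hD (hD' b)
        have hk' : n + n' = k := by omega
        rwa [hk'] at this

theorem isDiffOpLE_comp {n n' : ℕ} {D : M →ₗ[A] N} {D' : N →ₗ[A] P}
    (hD : IsDiffOpLE A B M N n D) (hD' : IsDiffOpLE A B N P n' D') :
    IsDiffOpLE A B M P (n + n') (D' ∘ₗ D) :=
  isDiffOpLE_comp_aux A B M N P (n + n') n n' rfl D D' hD hD'

end Comp

end Groth.Agent.H14
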