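import Mathlib.RingTheory.Ideal.KrullsHeightTheorem
import Mathlib.RingTheory.KrullDimension.NonZeroDivisors
import Mathlib.RingTheory.KrullDimension.Regular
import Mathlib.RingTheory.Ideal.Quotient.Operations
import Mathlib.RingTheory.Ideal.Over
import Groth.Prelude.Def_EGA4b

set_option autoImplicit false
set_option linter.style.haveILetI false
universe u

namespace Groth.Agent.H14.DimFormula

open IsLocalRing

section Dim

variable {R : Type*} [CommRing R]

-- the next two lemmas are taken from helper24's `H24/Catenary.lean` and helper72's `H72/EquidimS2.lean`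
theorem coheight_eq_ringKrullDim_quotient (P : PrimeSpectrum R) :
    ((Order.coheight P : ℕ∞) : WithBot ℕ∞) = ringKrullDim (R ⧸ P.asIdeal) := by
  rw [ringKrullDim_quotient, Order.coheight_eq_krullDim_Ici]
  have : PrimeSpectrum.zeroLocus (P.asIdeal : Set R) = Set.Ici P := by
    ext x
    simp only [PrimeSpectrum.mem_zeroLocus, SetLike.coe_subset_coe, Set.mem_Ici]
    rfl
  rw [this]

theorem exists_minimalPrimes_ringKrullDim_quotient_eq [IsNoetherianRing R] [IsLocalRing R] :
    ∃ p ∈ minimalPrimes R, ringKrullDim (R ⧸ p) = ringKrullDim R := by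
  obtain ⟨l, hlast, hlen⟩ := (maximalIdeal R).exists_ltSeries_length_eq_height
  obtain ⟨P0, hP0, hle⟩ := Ideal.exists_minimalPrimes_le (bot_le : (⊥ : Ideal R) ≤ l.head.asIdeal)
  refine ⟨P0, hP0, le_antisymm (ringKrullDim_quotient_le P0) ?_⟩
  have hP0prime : P0.IsPrime := hP0.1.1
  let P0' : PrimeSpectrum R := ⟨P0, hP0prime⟩
  have h1 : Order.coheight l.head ≤ Order.coheight P0' :=
    Order.coheight_anti (show P0' ≤ l.head from hle)
  have h2 : (l.length : ℕ∞) ≤ Order.coheight l.head := Order.length_le_coheight_head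
  rw [← coheight_eq_ringKrullDim_quotient P0', ← IsLocalRing.maximalIdeal_height_eq_ringKrullDim,
    ← hlen]
  exact WithBot.coe_le_coe.mpr (h2.trans h1)

/-- If `r` lies in no minimal prime then `dim R/(r) + 1 ≤ dim R`. -/
theorem ringKrullDim_quotient_succ_le_of_notMem_minimalPrimes {r : R}
    (hr : ∀ p ∈ minimalPrimes R, r ∉ p) :
    ringKrullDim (R ⧸ Ideal.span {r}) + 1 ≤ ringKrullDim R := by
  by_cases hr' : Ideal.span {r} = ⊤
  · rw [hr', ringKrullDim_eq_bot_of_subsingleton]
    simp
  have : Nonempty (PrimeSpectrum.zeroLocus (R := R) (Ideal.span {r})) := by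
    rwa [Set.nonempty_coe_sort, Set.nonempty_iff_ne_empty, ne_eq,
      PrimeSpectrum.zeroLocus_empty_iff_eq_top]
  have := Ideal.Quotient.nontrivial_iff.mpr hr'
  have := (Ideal.Quotient.mk (Ideal.span {r})).domain_nontrivial
  rw [ringKrullDim_quotient, Order.krullDim_eq_iSup_length, ringKrullDim,
    Order.krullDim_eq_iSup_length, ← WithBot.coe_one, ← WithBot.coe_add,
    ENat.iSup_add, WithBot.coe_le_coe, iSup_le_iff]
  intro l
  obtain ⟨p, hp, hp'⟩ := Ideal.exists_minimalPrimes_le (J := l.head.1.asIdeal) bot_le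
  let p' : PrimeSpectrum R := ⟨p, hp.1.1⟩
  have hp' : p' < l.head := lt_of_le_of_ne hp' fun h ↦ hr p hp
    (show r ∈ p by simpa [← h] using l.head.2)
  refine le_trans ?_ (le_iSup _ ((l.map Subtype.val (fun _ _ ↦ id)).cons p' hp'))
  simp

end Dim

end Groth.Agent.H14.DimFormula
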