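import Groth.Agent.H14.DimFormula

set_option autoImplicit false
set_option linter.style.haveILetI false
set_option linter.unusedSectionVars false
universe u

namespace Groth.Agent.H14.DimFormula

open IsLocalRing

section Q

variable {A B : Type*} [CommRing A] [CommRing B] [IsLocalRing A] [IsLocalRing B]
  (f : A →+* B) [IsLocalHom f] (I : Ideal A)

/-- the induced map `A/I → B/IB`. -/
noncomputable abbrev qMap : A ⧸ I →+* B ⧸ I.map f :=
  Ideal.quotientMap (I.map f) f Ideal.le_comap_map

theorem qMap_comp_mk : (qMap f I).comp (Ideal.Quotient.mk I) = (Ideal.Quotient.mk (I.map f)).comp f :=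
  Ideal.quotientMap_comp_mk _

theorem nontrivial_quotient (hI : I ≠ ⊤) : Nontrivial (A ⧸ I) :=
  Ideal.Quotient.nontrivial_iff.mpr hI

theorem map_ne_top (hI : I ≠ ⊤) : I.map f ≠ ⊤ := by
  intro h
  have h1 : I.map f ≤ maximalIdeal B :=
    (Ideal.map_mono (IsLocalRing.le_maximalIdeal hI)).trans (map_maximalIdeal_le f)
  exact (maximalIdeal.isMaximal B).ne_top (top_le_iff.mp (h ▸ h1))

theorem isLocalRing_quotient (hI : I ≠ ⊤) : IsLocalRing (A ⧸ I) :=
  haveI := nontrivial_quotient I hI
  IsLocalRing.of_surjective' (Ideal.Quotient.mk I) Ideal.Quotient.mk_surjective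

theorem isLocalHom_mk (hI : I ≠ ⊤) : IsLocalHom (Ideal.Quotient.mk I) :=
  haveI := nontrivial_quotient I hI
  IsLocalHom.of_surjective _ Ideal.Quotient.mk_surjective

theorem isLocalHom_qMap (hI : I ≠ ⊤) : IsLocalHom (qMap f I) := by
  haveI := isLocalHom_mk I hI
  haveI := isLocalHom_mk (I.map f) (map_ne_top f I hI)
  refine ⟨fun a ha ↦ ?_⟩
  obtain ⟨a, rfl⟩ := Ideal.Quotient.mk_surjective a
  have h1 : IsUnit (Ideal.Quotient.mk (I.map f) (f a)) := by
    simpa using ha
  have h2 : IsUnit (f a) := isUnit_of_map_unit (Ideal.Quotient.mk (I.map f)) _ h1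
  exact (isUnit_of_map_unit f a h2).map _

/-- the maximal ideal of `A/I`. -/
theorem maximalIdeal_quotient (hI : I ≠ ⊤) :
    haveI := isLocalRing_quotient I hI
    maximalIdeal (A ⧸ I) = (maximalIdeal A).map (Ideal.Quotient.mk I) := by
  haveI := isLocalRing_quotient I hI
  haveI := isLocalHom_mk I hI
  rw [← maximalIdeal_comap (Ideal.Quotient.mk I),
    Ideal.map_comap_of_surjective _ Ideal.Quotient.mk_surjective]

/-- The hypothesis of the dimension formula: for every non-maximal prime `p` of `A`, no minimal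
prime of `pB` lies over the maximal ideal. -/
def HypH : Prop :=
  ∀ p : Ideal A, p.IsPrime → p ≠ maximalIdeal A →
    ∀ q ∈ (p.map f).minimalPrimes, q.comap f ≠ maximalIdeal A

theorem hypH_qMap (hI : I ≠ ⊤) (h : HypH f) :
    haveI := isLocalRing_quotient I hI
    HypH (qMap f I) := by
  haveI := isLocalRing_quotient I hI
  haveI := isLocalHom_mk I hI
  intro p' hp' hne q' hq' hcon
  have hsurj : Function.Surjective (Ideal.Quotient.mk I) := Ideal.Quotient.mk_surjective
  have hsurj' : Function.Surjective (Ideal.Quotient.mk (I.map f)) := Ideal.Quotient.mk_surjective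
  have hp'eq : p' = (p'.comap (Ideal.Quotient.mk I)).map (Ideal.Quotient.mk I) :=
    (Ideal.map_comap_of_surjective _ hsurj p').symm
  have hIp : I ≤ p'.comap (Ideal.Quotient.mk I) := by
    intro x hx
    rw [Ideal.mem_comap, Ideal.Quotient.eq_zero_iff_mem.mpr hx]
    exact p'.zero_mem
  have hpne : p'.comap (Ideal.Quotient.mk I) ≠ maximalIdeal A := by
    intro hp
    apply hne
    rw [hp'eq, hp, maximalIdeal_quotient I hI]
  have hmap : p'.map (qMap f I) =
      ((p'.comap (Ideal.Quotient.mk I)).map f).map (Ideal.Quotient.mk (I.map f)) := by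
    conv_lhs => rw [hp'eq]
    rw [Ideal.map_map, qMap_comp_mk, ← Ideal.map_map]
  rw [hmap] at hq'
  have hq := Ideal.minimalPrimes_comap_of_surjective hsurj' hq'
  rw [Ideal.comap_map_mk (Ideal.map_mono hIp)] at hq
  refine h _ (Ideal.comap_isPrime _ _) hpne _ hq ?_
  rw [Ideal.comap_comap, ← qMap_comp_mk, ← Ideal.comap_comap, hcon, maximalIdeal_comap]

end Q

end Groth.Agent.H14.DimFormula
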