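import Groth.Agent.H72.EquidimS2
import Groth.Agent.H14.DimFormula2
import Groth.Prelude.Def_EGA4b
import Groth.Prelude.Def_Found

set_option autoImplicit false
set_option linter.style.haveILetI false
set_option linter.unusedSectionVars false
universe u

namespace Groth.Agent.H14.EquidimFibre

open IsLocalRing Groth.Agent.H24

section HC

variable {B : Type*} [CommRing B] [IsNoetherianRing B] [IsLocalRing B]

/-- In a catenary equidimensional Noetherian local ring, `ht q + dim B/q = dim B`. -/
theorem height_add_coheight_eq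
    (hE : ∀ P ∈ minimalPrimes B, ringKrullDim (B ⧸ P) = ringKrullDim B)
    (hC : CatenaryCond (PrimeSpectrum B)) (q : PrimeSpectrum B) :
    ((q.asIdeal.height + Order.coheight q : ℕ∞) : WithBot ℕ∞) = ringKrullDim B := by
  have := wellFoundedGT_primeSpectrum (A := B)
  have := wellFoundedLT_primeSpectrum (A := B)
  apply le_antisymm
  · have : Nonempty (PrimeSpectrum B) := ⟨q⟩
    rw [ringKrullDim, Order.krullDim_eq_iSup_height_add_coheight_of_nonempty, WithBot.coe_le_coe,
      PrimeSpectrum.height_eq_orderHeight q]
    exact le_iSup (fun a : PrimeSpectrum B => Order.height a + Order.coheight a) q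
  obtain ⟨P0, hP0, hP0q⟩ := Ideal.exists_minimalPrimes_le (bot_le : (⊥ : Ideal B) ≤ q.asIdeal)
  let P0' : PrimeSpectrum B := ⟨P0, hP0.1.1⟩
  have hP0q' : P0' ≤ q := hP0q
  obtain ⟨t1, ht1h, ht1l⟩ := exists_satSeries_of_le hP0q'
  have hqm : q ≤ IsLocalRing.closedPoint B := IsLocalRing.le_maximalIdeal q.2.ne_top
  obtain ⟨t2, ht2h, ht2l⟩ := exists_satSeries_of_le hqm
  let T : SatSeries (PrimeSpectrum B) := t1.smash t2 (by rw [ht1l, ht2h])
  have hTh : T.head = P0' := by
    simp only [T, RelSeries.head_smash, ht1h]
  have hTl : T.last = IsLocalRing.closedPoint B := by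
    simp only [T, RelSeries.last_smash, ht2l]
  have hTlen : T.length = t1.length + t2.length := by
    simp only [T, RelSeries.smash_length]
  have h1 := coheight_head_le_length_of_catenaryCond hC (IsLocalRing.closedPoint B)
    (fun a => IsLocalRing.le_maximalIdeal a.2.ne_top) T hTl
  rw [hTh, hTlen] at h1
  have h2 : (t1.length : ℕ∞) ≤ q.asIdeal.height := by
    rw [PrimeSpectrum.height_eq_orderHeight]
    have := Order.length_le_height_last (p := t1.toLT)
    rwa [SatSeries.toLT_last, ht1l] at this
  have h3 : (t2.length : ℕ∞) ≤ Order.coheight q := by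
    have := Order.length_le_coheight_head (p := t2.toLT)
    rwa [SatSeries.toLT_head, ht2h] at this
  rw [← hE P0 hP0, ← Groth.Agent.H24.coheight_eq_ringKrullDim_quotient P0', WithBot.coe_le_coe]
  refine h1.trans ?_
  push_cast
  gcongr

end HC

end Groth.Agent.H14.EquidimFibre
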