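import Groth.Agent.H14.EquidimFibre
import Groth.Agent.H14.DimFormula

set_option autoImplicit false
set_option linter.style.haveILetI false
set_option linter.unusedSectionVars false
universe u

namespace Groth.Agent.H14.EquidimFibre

open IsLocalRing Groth.Agent.H24

theorem liesOver_of_mem_minimalPrimes_map (R S : Type*) [CommRing R] [CommRing S] [Algebra R S]
    [Module.Flat R S] (p : Ideal R) [p.IsPrime] (q : Ideal S)
    (hq : q ∈ (p.map (algebraMap R S)).minimalPrimes) : q.LiesOver p := by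
  haveI hqp : q.IsPrime := hq.1.1
  have hle : p ≤ q.under R := by
    rw [Ideal.under_def]
    exact Ideal.le_comap_of_map_le hq.1.2
  haveI : q.LiesOver (q.under R) := ⟨rfl⟩
  obtain ⟨q', hq'le, hq'prime, hq'over⟩ :=
    Ideal.exists_ideal_le_liesOver_of_le (p := p) (q := q.under R) q hle
  have hq'ge : p.map (algebraMap R S) ≤ q' := by
    rw [Ideal.map_le_iff_le_comap, ← Ideal.under_def, ← hq'over.over]
  have hqq' : q ≤ q' := hq.2 ⟨hq'prime, hq'ge⟩ hq'le
  have heq : q' = q := le_antisymm hq'le hqq'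
  rw [heq] at hq'over
  exact hq'over

theorem ringKrullDim_quotient_minimalPrime_fibre (A B : Type u) [CommRing A] [CommRing B]
    [IsNoetherianRing A] [IsNoetherianRing B] [IsLocalRing B] [Algebra A B]
    [Module.Flat A B] (hcat : CAlg.IsCatenary B) (heq : EGA4.IsEquidim B)
    (p : Ideal A) [p.IsPrime] (I : Ideal B) (hI : I = p.map (algebraMap A B)) (Q' : Ideal (B ⧸ I))
    (hQ' : Q' ∈ minimalPrimes (B ⧸ I)) :
    ∃ c : ℕ∞, ((p.height + c : ℕ∞) : WithBot ℕ∞) = ringKrullDim B ∧
      ringKrullDim ((B ⧸ I) ⧸ Q') = c := by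
  have hsurj : Function.Surjective (Ideal.Quotient.mk I) := Ideal.Quotient.mk_surjective
  have hqmin : Q'.comap (Ideal.Quotient.mk I) ∈ I.minimalPrimes := by
    rw [Ideal.minimalPrimes_eq_comap]
    exact Set.mem_image_of_mem _ hQ'
  haveI : Q'.IsPrime := hQ'.1.1
  haveI hqprime : (Q'.comap (Ideal.Quotient.mk I)).IsPrime := hqmin.1.1
  have hQ'eq : Q' = (Q'.comap (Ideal.Quotient.mk I)).map (Ideal.Quotient.mk I) :=
    (Ideal.map_comap_of_surjective _ hsurj Q').symm
  haveI : (Q'.comap (Ideal.Quotient.mk I)).LiesOver p :=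
    liesOver_of_mem_minimalPrimes_map A B p _ (hI ▸ hqmin)
  have hht := Ideal.height_eq_height_add_of_liesOver_of_hasGoingDown p
    (Q'.comap (Ideal.Quotient.mk I))
  have hQ'0 : ((Q'.comap (Ideal.Quotient.mk I)).map
      (Ideal.Quotient.mk (p.map (algebraMap A B)))).height = 0 := by
    subst hI
    rw [← hQ'eq]
    exact Ideal.height_eq_zero_iff.mpr hQ'
  rw [hQ'0, add_zero] at hht
  refine ⟨Order.coheight (⟨_, hqprime⟩ : PrimeSpectrum B), ?_, ?_⟩
  · rw [← hht]
    exact height_add_coheight_eq heq hcat.2 ⟨_, hqprime⟩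
  · rw [Groth.Agent.H24.coheight_eq_ringKrullDim_quotient,
      ringKrullDim_eq_of_ringEquiv (Ideal.quotEquivOfEq hQ'eq),
      ringKrullDim_eq_of_ringEquiv (DoubleQuot.quotQuotEquivQuotOfLE hqmin.1.2)]

theorem isEquidim_quotient_map_of_flat (A B : Type u) [CommRing A] [CommRing B]
    [IsNoetherianRing A] [IsNoetherianRing B] [IsLocalRing A] [IsLocalRing B] [Algebra A B]
    [IsLocalHom (algebraMap A B)] [Module.Flat A B] (hcat : CAlg.IsCatenary B)
    (heq : EGA4.IsEquidim B) (p : Ideal A) [p.IsPrime] :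
    EGA4.IsEquidim (B ⧸ Ideal.map (algebraMap A B) p) := by
  have hp : p ≠ ⊤ := Ideal.IsPrime.ne_top ‹_›
  haveI := DimFormula.isLocalRing_quotient (p.map (algebraMap A B))
    (DimFormula.map_ne_top (algebraMap A B) p hp)
  obtain ⟨Q0, hQ0, hdim0⟩ := DimFormula.exists_minimalPrimes_ringKrullDim_quotient_eq
    (R := B ⧸ p.map (algebraMap A B))
  obtain ⟨c0, hc0, hc0'⟩ := ringKrullDim_quotient_minimalPrime_fibre A B hcat heq p _ rfl Q0 hQ0
  intro Q hQ
  obtain ⟨c, hc, hc'⟩ := ringKrullDim_quotient_minimalPrime_fibre A B hcat heq p _ rfl Q hQ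
  rw [hc', ← hdim0, hc0']
  have h1 : p.height + c = p.height + c0 := WithBot.coe_injective (hc.trans hc0.symm)
  have hfin : p.height ≠ ⊤ := Ideal.height_ne_top_of_isPrime
  rw [(ENat.add_right_injective_of_ne_top hfin) h1]

end Groth.Agent.H14.EquidimFibre
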