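import Mathlib.RingTheory.Polynomial.UniversalFactorizationRing
import Mathlib.RingTheory.Etale.Basic
import Mathlib.RingTheory.TensorProduct.Quotient
import Mathlib.RingTheory.FinitePresentation
import Mathlib.RingTheory.Localization.Away.Basic

set_option autoImplicit false
set_option linter.style.haveILetI false
universe u

namespace Groth.Agent.H14

open Polynomial
open scoped TensorProduct

section HomEquiv

variable {A : Type u} [CommRing A] {n : ℕ} (m k : ℕ) (hn : n = m + k) (p : MonicDegreeEq A n)
  {T : Type u} [CommRing T] [Algebra A T]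

open UniversalCoprimeFactorizationRing in
set_option backward.isDefEq.respectTransparency.types false in
theorem ucfr_homEquiv_id_fst :
    ((homEquiv (UniversalCoprimeFactorizationRing m k hn p) m k hn p) (AlgHom.id A _)).1.1 =
      factor₁ m k hn p := by
  ext1
  simp [homEquiv, UniversalFactorizationRing.homEquiv, factor₁,
        MonicDegreeEq.map]

open UniversalCoprimeFactorizationRing in
set_option backward.isDefEq.respectTransparency.types false in
theorem ucfr_homEquiv_id_snd :
    ((homEquiv (UniversalCoprimeFactorizationRing m k hn p) m k hn p) (AlgHom.id A _)).1.2 =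
      factor₂ m k hn p := by
  ext1
  simp [homEquiv, UniversalFactorizationRing.homEquiv, factor₂,
        MonicDegreeEq.map]

open UniversalCoprimeFactorizationRing in
theorem ucfr_homEquiv_fst (φ : UniversalCoprimeFactorizationRing m k hn p →ₐ[A] T) :
    ((homEquiv T m k hn p) φ).1.1 = (factor₁ m k hn p).map φ.toRingHom := by
  have h := homEquiv_comp_fst (UniversalCoprimeFactorizationRing m k hn p) m k hn p
    (AlgHom.id A _) φ
  rw [AlgHom.comp_id] at h
  rw [h, ucfr_homEquiv_id_fst]
  rfl

open UniversalCoprimeFactorizationRing in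
theorem ucfr_homEquiv_snd (φ : UniversalCoprimeFactorizationRing m k hn p →ₐ[A] T) :
    ((homEquiv T m k hn p) φ).1.2 = (factor₂ m k hn p).map φ.toRingHom := by
  have h := homEquiv_comp_snd (UniversalCoprimeFactorizationRing m k hn p) m k hn p
    (AlgHom.id A _) φ
  rw [AlgHom.comp_id] at h
  rw [h, ucfr_homEquiv_id_snd]
  rfl

end HomEquiv

/-- If `S` is an étale `R`-algebra and `ψ : S →ₐ[R] R` is a retraction of the structure map, then
`ker ψ` is generated by an idempotent. -/
theorem exists_idempotent_ker_of_etale_retraction {R S : Type u} [CommRing R] [CommRing S]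
    [Algebra R S] [Algebra.Etale R S] (ψ : S →ₐ[R] R) :
    ∃ ε : S, IsIdempotentElem ε ∧ RingHom.ker ψ.toRingHom = Ideal.span {ε} := by
  letI : Algebra S R := ψ.toRingHom.toAlgebra
  haveI : IsScalarTower R S R :=
    IsScalarTower.of_algebraMap_eq (fun r => (ψ.commutes r).symm)
  have hsurj : Function.Surjective (algebraMap S R) := fun r => ⟨algebraMap R S r, ψ.commutes r⟩
  haveI : Algebra.FormallyEtale S R :=
    (Algebra.FormallyEtale.iff_restrictScalars (R := R) (A := S) (B := R)).mp inferInstance
  have hidem : IsIdempotentElem (RingHom.ker (algebraMap S R)) :=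
    (Algebra.FormallyEtale.iff_of_surjective hsurj).mp inferInstance
  have hfg : (RingHom.ker ψ.toRingHom).FG :=
    Algebra.FinitePresentation.ker_fG_of_surjective ψ hsurj
  obtain ⟨ε, hε, hsp⟩ := (Ideal.isIdempotentElem_iff_of_fg _ hfg).mp hidem
  exact ⟨ε, hε, hsp⟩

/-- An étale `A`-algebra `U` with an `A`-algebra map `φ : U → A/I` can be localized at an element
`u` with `φ u = 1` so that `A/I → U_u / I U_u` becomes bijective (with inverse induced by `φ`). -/
theorem exists_away_bijective_of_etale_point {A : Type u} [CommRing A] (I : Ideal A)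
    (U : Type u) [CommRing U] [Algebra A U] [Algebra.Etale A U] (φ : U →ₐ[A] A ⧸ I) :
    ∃ u : U, φ u = 1 ∧
      Function.Bijective (algebraMap (A ⧸ I)
        (Localization.Away u ⧸ I.map (algebraMap A (Localization.Away u)))) ∧
      ∀ y : U, Ideal.Quotient.mk (I.map (algebraMap A (Localization.Away u)))
          (algebraMap U (Localization.Away u) y) =
        algebraMap (A ⧸ I) (Localization.Away u ⧸ I.map (algebraMap A (Localization.Away u)))
          (φ y) := by
  haveI : Algebra.Etale (A ⧸ I) (U ⧸ I.map (algebraMap A U)) :=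
    Algebra.Etale.of_equiv (Algebra.TensorProduct.quotIdealMapEquivQuotTensor U I).symm
  have hle : I.map (algebraMap A U) ≤ RingHom.ker φ.toRingHom := by
    rw [Ideal.map_le_iff_le_comap]
    intro a ha
    rw [Ideal.mem_comap, RingHom.mem_ker]
    show φ (algebraMap A U a) = 0
    rw [φ.commutes]
    exact Ideal.Quotient.eq_zero_iff_mem.mpr ha
  let ψ : (U ⧸ I.map (algebraMap A U)) →ₐ[A ⧸ I] A ⧸ I :=
    { Ideal.Quotient.lift _ φ.toRingHom (fun a ha => hle ha) with
      commutes' := by
        intro r
        obtain ⟨a, rfl⟩ := Ideal.Quotient.mk_surjective r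
        show φ (algebraMap A U a) = _
        rw [φ.commutes]
        rfl }
  have hψ : ∀ y : U, ψ (Ideal.Quotient.mk _ y) = φ y := fun y => rfl
  obtain ⟨ε, hε, hker⟩ := exists_idempotent_ker_of_etale_retraction ψ
  obtain ⟨u, hu⟩ := Ideal.Quotient.mk_surjective (1 - ε)
  have hψε : ψ ε = 0 := by
    have : ε ∈ RingHom.ker ψ.toRingHom := by rw [hker]; exact Ideal.mem_span_singleton_self ε
    exact this
  have hφu : φ u = 1 := by
    rw [← hψ, hu, map_sub, map_one, hψε, sub_zero]
  refine ⟨u, hφu, ?_⟩
  -- the map from the localization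
  have hunit : IsUnit (φ.toRingHom u) := by
    show IsUnit (φ u)
    rw [hφu]
    exact isUnit_one
  let φ' : Localization.Away u →+* A ⧸ I := IsLocalization.Away.lift u hunit
  have hφ' : ∀ y : U, φ' (algebraMap U (Localization.Away u) y) = φ y :=
    fun y => IsLocalization.Away.lift_eq u hunit y
  have hφ'A : ∀ a : A, φ' (algebraMap A (Localization.Away u) a) = Ideal.Quotient.mk I a := by
    intro a
    rw [IsScalarTower.algebraMap_apply A U (Localization.Away u), hφ', φ.commutes]
    rfl
  have hle' : I.map (algebraMap A (Localization.Away u)) ≤ RingHom.ker φ' := by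
    rw [Ideal.map_le_iff_le_comap]
    intro a ha
    rw [Ideal.mem_comap, RingHom.mem_ker, hφ'A]
    exact Ideal.Quotient.eq_zero_iff_mem.mpr ha
  -- the kernel of `φ'` is `I A'`
  have hker' : ∀ y' : Localization.Away u, φ' y' = 0 →
      y' ∈ I.map (algebraMap A (Localization.Away u)) := by
    intro y' hy'
    obtain ⟨j, a, hja⟩ := IsLocalization.Away.surj u y'
    have hφa : φ a = 0 := by
      rw [← hφ', ← hja, map_mul, hy', zero_mul]
    have hmem : Ideal.Quotient.mk (I.map (algebraMap A U)) a ∈ Ideal.span {ε} := by
      rw [← hker]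
      show ψ (Ideal.Quotient.mk _ a) = 0
      rw [hψ, hφa]
    obtain ⟨z, hz⟩ := Ideal.mem_span_singleton'.mp hmem
    have hua : u * a ∈ I.map (algebraMap A U) := by
      rw [← Ideal.Quotient.eq_zero_iff_mem, map_mul, hu, ← hz]
      have hε' : ε * ε = ε := hε
      linear_combination (-z) * hε'
    have hua' : algebraMap U (Localization.Away u) (u * a) ∈
        I.map (algebraMap A (Localization.Away u)) := by
      have h1 := Ideal.mem_map_of_mem (algebraMap U (Localization.Away u)) hua
      rwa [Ideal.map_map, ← IsScalarTower.algebraMap_eq] at h1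
    have huu : IsUnit (algebraMap U (Localization.Away u) u) :=
      IsLocalization.Away.algebraMap_isUnit u
    have h2 : y' * (algebraMap U (Localization.Away u) u ^ j *
        algebraMap U (Localization.Away u) u) ∈ I.map (algebraMap A (Localization.Away u)) := by
      rw [← mul_assoc, hja, ← map_mul, mul_comm a u]
      exact hua'
    exact (Ideal.mul_unit_mem_iff_mem _ ((huu.pow j).mul huu)).mp h2
  -- every class is the image of its value under `φ'`
  have hrep : ∀ x' : Localization.Away u,
      Ideal.Quotient.mk (I.map (algebraMap A (Localization.Away u))) x' =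
        algebraMap (A ⧸ I) (Localization.Away u ⧸ I.map (algebraMap A (Localization.Away u)))
          (φ' x') := by
    intro x'
    obtain ⟨a, ha⟩ := Ideal.Quotient.mk_surjective (φ' x')
    rw [← ha]
    show _ = Ideal.Quotient.mk _ (algebraMap A (Localization.Away u) a)
    rw [Ideal.Quotient.eq]
    apply hker'
    rw [map_sub, hφ'A, ha, sub_self]
  refine ⟨⟨?_, ?_⟩, ?_⟩
  · -- injective
    intro r s hrs
    obtain ⟨a, rfl⟩ := Ideal.Quotient.mk_surjective r
    obtain ⟨b, rfl⟩ := Ideal.Quotient.mk_surjective s
    have h1 : Ideal.Quotient.mk (I.map (algebraMap A (Localization.Away u)))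
        (algebraMap A (Localization.Away u) a) =
        Ideal.Quotient.mk _ (algebraMap A (Localization.Away u) b) := hrs
    rw [Ideal.Quotient.eq] at h1
    have h2 := hle' h1
    rw [RingHom.mem_ker, map_sub, hφ'A, hφ'A, sub_eq_zero] at h2
    exact h2
  · intro x
    obtain ⟨x', rfl⟩ := Ideal.Quotient.mk_surjective x
    exact ⟨φ' x', (hrep x').symm⟩
  · intro y
    rw [hrep, hφ']

open UniversalCoprimeFactorizationRing in
/-- Étale-local lifting of coprime monic factorizations modulo an ideal (S2042). -/
theorem exists_etale_lift_factorization_coprime {A : Type u} [CommRing A] (I : Ideal A)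
    (f : A[X])
    (hf : f.Monic) (g h : (A ⧸ I)[X]) (hg : g.Monic) (hh : h.Monic) (hcop : IsCoprime g h)
    (hfgh : f.map (Ideal.Quotient.mk I) = g * h) :
    ∃ (A' : Type u) (_ : CommRing A') (_ : Algebra A A'), Algebra.Etale A A' ∧
      Function.Bijective (algebraMap (A ⧸ I) (A' ⧸ I.map (algebraMap A A'))) ∧
      ∃ g' h' : A'[X], g'.Monic ∧ h'.Monic ∧ IsCoprime g' h' ∧
        f.map (algebraMap A A') = g' * h' ∧
        g'.map (Ideal.Quotient.mk (I.map (algebraMap A A'))) =
          g.map (algebraMap (A ⧸ I) (A' ⧸ I.map (algebraMap A A'))) ∧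
        h'.map (Ideal.Quotient.mk (I.map (algebraMap A A'))) =
          h.map (algebraMap (A ⧸ I) (A' ⧸ I.map (algebraMap A A'))) := by
  rcases subsingleton_or_nontrivial (A ⧸ I) with hsub | hnt
  · -- degenerate case: take the zero ring
    haveI : Subsingleton (Localization.Away (0 : A)) :=
      IsLocalization.subsingleton (M := Submonoid.powers (0 : A)) ⟨1, pow_one 0⟩
    refine ⟨Localization.Away (0 : A), inferInstance, inferInstance,
      Algebra.Etale.of_isLocalizationAway (0 : A), ⟨fun x y _ => Subsingleton.elim x y,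
        fun y => ⟨0, Subsingleton.elim _ _⟩⟩, 1, 1, monic_one, monic_one, isCoprime_one_left,
      Subsingleton.elim _ _, Subsingleton.elim _ _, Subsingleton.elim _ _⟩
  -- main case
  have hn : f.natDegree = g.natDegree + h.natDegree := by
    have h1 := congrArg natDegree hfgh
    rwa [hf.natDegree_map, hg.natDegree_mul hh] at h1
  let p : MonicDegreeEq A f.natDegree := MonicDegreeEq.mk f hf rfl
  let q : { q : MonicDegreeEq (A ⧸ I) g.natDegree × MonicDegreeEq (A ⧸ I) h.natDegree //
      q.1.1 * q.2.1 = p.1.map (algebraMap A (A ⧸ I)) ∧ IsCoprime q.1.1 q.2.1 } :=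
    ⟨(MonicDegreeEq.mk g hg rfl, MonicDegreeEq.mk h hh rfl), hfgh.symm, hcop⟩
  let φ : UniversalCoprimeFactorizationRing g.natDegree h.natDegree hn p →ₐ[A] A ⧸ I :=
    (homEquiv (A ⧸ I) g.natDegree h.natDegree hn p).symm q
  have hφq : homEquiv (A ⧸ I) g.natDegree h.natDegree hn p φ = q := Equiv.apply_symm_apply _ _
  have hφ1 : (factor₁ g.natDegree h.natDegree hn p).1.map φ.toRingHom = g := by
    have h1 := ucfr_homEquiv_fst g.natDegree h.natDegree hn p φ
    rw [hφq] at h1
    exact (congrArg Subtype.val h1).symm
  have hφ2 : (factor₂ g.natDegree h.natDegree hn p).1.map φ.toRingHom = h := by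
    have h1 := ucfr_homEquiv_snd g.natDegree h.natDegree hn p φ
    rw [hφq] at h1
    exact (congrArg Subtype.val h1).symm
  obtain ⟨u, -, hbij, hcompat⟩ := exists_away_bijective_of_etale_point I
    (UniversalCoprimeFactorizationRing g.natDegree h.natDegree hn p) φ
  haveI : Algebra.Etale (UniversalCoprimeFactorizationRing g.natDegree h.natDegree hn p)
      (Localization.Away u) := Algebra.Etale.of_isLocalizationAway u
  have het : Algebra.Etale A (Localization.Away u) :=
    Algebra.Etale.comp A (UniversalCoprimeFactorizationRing g.natDegree h.natDegree hn p)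
      (Localization.Away u)
  have hcomp : (Ideal.Quotient.mk (I.map (algebraMap A (Localization.Away u)))).comp
      (algebraMap (UniversalCoprimeFactorizationRing g.natDegree h.natDegree hn p)
        (Localization.Away u)) =
      (algebraMap (A ⧸ I) (Localization.Away u ⧸ I.map (algebraMap A (Localization.Away u)))).comp
        φ.toRingHom := RingHom.ext hcompat
  refine ⟨Localization.Away u, inferInstance, inferInstance, het, hbij,
    (factor₁ g.natDegree h.natDegree hn p).1.map (algebraMap _ (Localization.Away u)),
    (factor₂ g.natDegree h.natDegree hn p).1.map (algebraMap _ (Localization.Away u)),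
    (factor₁ g.natDegree h.natDegree hn p).monic.map _,
    (factor₂ g.natDegree h.natDegree hn p).monic.map _, ?_, ?_, ?_, ?_⟩
  · obtain ⟨a, b, hab⟩ := isCoprime_factor₁_factor₂ g.natDegree h.natDegree hn p
    refine ⟨a.map (algebraMap _ (Localization.Away u)),
      b.map (algebraMap _ (Localization.Away u)), ?_⟩
    rw [← Polynomial.map_mul, ← Polynomial.map_mul, ← Polynomial.map_add, hab,
      Polynomial.map_one]
  · rw [← Polynomial.map_mul, factor₁_mul_factor₂, MonicDegreeEq.map_coe, Polynomial.map_map,
      ← IsScalarTower.algebraMap_eq]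
    rfl
  · rw [Polynomial.map_map, hcomp, ← Polynomial.map_map, hφ1]
  · rw [Polynomial.map_map, hcomp, ← Polynomial.map_map, hφ2]

/-- Étale-local lifting of coprime monic factorizations modulo an ideal (S2042). -/
theorem exists_etale_lift_factorization {A : Type u} [CommRing A] (I : Ideal A) (f : A[X])
    (hf : f.Monic) (g h : (A ⧸ I)[X]) (hg : g.Monic) (hh : h.Monic) (hcop : IsCoprime g h)
    (hfgh : f.map (Ideal.Quotient.mk I) = g * h) :
    ∃ (A' : Type u) (_ : CommRing A') (_ : Algebra A A'), Algebra.Etale A A' ∧
      Function.Bijective (algebraMap (A ⧸ I) (A' ⧸ I.map (algebraMap A A'))) ∧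
      ∃ g' h' : A'[X], g'.Monic ∧ h'.Monic ∧ f.map (algebraMap A A') = g' * h' ∧
        g'.map (Ideal.Quotient.mk (I.map (algebraMap A A'))) =
          g.map (algebraMap (A ⧸ I) (A' ⧸ I.map (algebraMap A A'))) ∧
        h'.map (Ideal.Quotient.mk (I.map (algebraMap A A'))) =
          h.map (algebraMap (A ⧸ I) (A' ⧸ I.map (algebraMap A A'))) := by
  obtain ⟨A', i1, i2, het, hbij, g', h', hg', hh', -, hf', hgm, hhm⟩ :=
    exists_etale_lift_factorization_coprime I f hf g h hg hh hcop hfgh
  exact ⟨A', i1, i2, het, hbij, g', h', hg', hh', hf', hgm, hhm⟩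

end Groth.Agent.H14
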