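import Groth.Prelude.Def_CAlg2
import Mathlib.RingTheory.LocalRing.RingHom.Basic
import Mathlib.RingTheory.IntegralClosure.IntegrallyClosed
import Mathlib.RingTheory.Nilpotent.Lemmas
import Mathlib.RingTheory.Ideal.Quotient.Operations

set_option autoImplicit false
set_option linter.style.haveILetI false
universe u

namespace Groth.Agent.H14

/-- An integrally closed local domain is geometrically unibranch. -/
theorem isGeomUnibranch_of_isIntegrallyClosed (A : Type u) [CommRing A] [IsLocalRing A]
    [IsDomain A] [IsIntegrallyClosed A] : CAlg2.IsGeomUnibranch A := by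
  have hnil : nilradical A = ⊥ := by rw [nilradical_eq_zero, Ideal.zero_eq_bot]
  have hinj : Function.Injective (Ideal.Quotient.mk (nilradical A)) := by
    rw [injective_iff_map_eq_zero]
    intro a ha
    rw [Ideal.Quotient.eq_zero_iff_mem, hnil, Ideal.mem_bot] at ha
    exact ha
  let e : A ≃+* CAlg2.red A :=
    RingEquiv.ofBijective (Ideal.Quotient.mk (nilradical A)) ⟨hinj, Ideal.Quotient.mk_surjective⟩
  haveI hdom : IsDomain (CAlg2.red A) := e.symm.isDomain
  haveI hic : IsIntegrallyClosed (CAlg2.red A) := IsIntegrallyClosed.of_equiv e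
  haveI hloc : IsLocalRing (CAlg2.red A) := e.isLocalRing
  have hsurj : Function.Surjective (algebraMap (CAlg2.red A) (CAlg2.normRed A)) := by
    intro y
    obtain ⟨r, hr⟩ := (IsIntegrallyClosed.isIntegral_iff (R := CAlg2.red A)
      (K := FractionRing (CAlg2.red A))).mp y.2
    exact ⟨r, Subtype.ext hr⟩
  have hinj' : Function.Injective (algebraMap (CAlg2.red A) (CAlg2.normRed A)) := by
    intro a b hab
    have := congrArg (Subtype.val) hab
    exact IsFractionRing.injective (CAlg2.red A) (FractionRing (CAlg2.red A)) this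
  let e' : CAlg2.red A ≃+* CAlg2.normRed A :=
    RingEquiv.ofBijective (algebraMap (CAlg2.red A) (CAlg2.normRed A)) ⟨hinj', hsurj⟩
  refine ⟨⟨hdom, e'.isLocalRing⟩, ?_⟩
  intro m' hm' x
  refine ⟨0, ?_⟩
  rw [pow_zero, pow_one]
  obtain ⟨y, rfl⟩ := Ideal.Quotient.mk_surjective x
  obtain ⟨r, rfl⟩ := hsurj y
  obtain ⟨a, rfl⟩ := Ideal.Quotient.mk_surjective r
  exact ⟨a, rfl⟩

end Groth.Agent.H14
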