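import Groth.Agent.H14.RkDescent
import Groth.Agent.H14.D15.DepthFlat
import Groth.Agent.H14.ZClos.Serre

set_option autoImplicit false
set_option linter.style.haveILetI false
universe u

open RingTheory.Sequence TensorProduct

namespace Groth.Agent.H14

/-- The existence of a regular sequence of given length inside an ideal only depends on the zero
locus of the ideal. -/
theorem exists_isRegular_of_zeroLocus_eq {R : Type u} [CommRing R] [IsNoetherianRing R]
    (I J : Ideal R) (M : Type u) [AddCommGroup M] [Module R M] [Module.Finite R M]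
    (hIJ : PrimeSpectrum.zeroLocus (I : Set R) = PrimeSpectrum.zeroLocus (J : Set R))
    (hI : I • (⊤ : Submodule R M) ≠ ⊤) (hJ : J • (⊤ : Submodule R M) ≠ ⊤) (n : ℕ)
    (h : ∃ rs : List R, rs.length = n ∧ (∀ r ∈ rs, r ∈ I) ∧ IsRegular M rs) :
    ∃ rs : List R, rs.length = n ∧ (∀ r ∈ rs, r ∈ J) ∧ IsRegular M rs := by
  have tfaeI := ModuleCat.exists_isRegular_tfae I n (ModuleCat.of R M) (lt_top_iff_ne_top.mpr hI)
  have tfaeJ := ModuleCat.exists_isRegular_tfae J n (ModuleCat.of R M) (lt_top_iff_ne_top.mpr hJ)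
  have h1 := (tfaeI.out 3 0).mp h
  refine (tfaeJ.out 0 3).mp ?_
  intro N hN hfin hsupp
  exact h1 N hN hfin (hIJ ▸ hsupp)

/-- The localization of the ring as a module is the localized ring. -/
noncomputable def localizedModuleSelfEquiv {R : Type u} [CommRing R] (p : Ideal R) [p.IsPrime] :
    LocalizedModule p.primeCompl R ≃ₗ[Localization.AtPrime p] Localization.AtPrime p :=
  (IsLocalizedModule.linearEquiv p.primeCompl (LocalizedModule.mkLinearMap p.primeCompl R)
    (Algebra.linearMap R (Localization.AtPrime p))).extendScalarsOfIsLocalization p.primeCompl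
      (Localization.AtPrime p)

theorem depth_localizedModule_self {R : Type u} [CommRing R] (p : Ideal R) [p.IsPrime] :
    LocCoh.depth (Localization.AtPrime p) (LocalizedModule p.primeCompl R) =
      LocCoh.idealDepth (IsLocalRing.maximalIdeal (Localization.AtPrime p))
        (Localization.AtPrime p) :=
  D15.idealDepth_congr (localizedModuleSelfEquiv p) _

theorem maximalIdeal_smul_top_ne_top (A : Type u) [CommRing A] [IsLocalRing A] :
    IsLocalRing.maximalIdeal A • (⊤ : Submodule A A) ≠ ⊤ := by
  rw [smul_eq_mul, Ideal.mul_top]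
  exact Ideal.IsPrime.ne_top'

/-- Depth can only go up along a flat local homomorphism whose closed fibre is zero-dimensional. -/
theorem idealDepth_le_of_flat_of_zeroLocus (A B : Type u) [CommRing A] [CommRing B] [Algebra A B]
    [IsLocalRing A] [IsLocalRing B] [IsNoetherianRing A] [IsNoetherianRing B] [Module.Flat A B]
    [IsLocalHom (algebraMap A B)]
    (hfib : PrimeSpectrum.zeroLocus
        ((IsLocalRing.maximalIdeal A).map (algebraMap A B) : Set B) =
      PrimeSpectrum.zeroLocus (IsLocalRing.maximalIdeal B : Set B)) :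
    LocCoh.idealDepth (IsLocalRing.maximalIdeal B) B ≤
      LocCoh.idealDepth (IsLocalRing.maximalIdeal A) A := by
  haveI : Module.FaithfullyFlat A B := Module.FaithfullyFlat.of_flat_of_isLocalHom
  rw [← ENat.forall_natCast_le_iff_le]
  intro n hn
  obtain ⟨rs, hlen, hmem, hreg⟩ :=
    D15.exists_isRegular_of_le_idealDepth _ B (maximalIdeal_smul_top_ne_top B) n hn
  have hJle : (IsLocalRing.maximalIdeal A).map (algebraMap A B) ≤ IsLocalRing.maximalIdeal B :=
    ((IsLocalRing.local_hom_TFAE (algebraMap A B)).out 0 2).mp ‹_›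
  have hJ : (IsLocalRing.maximalIdeal A).map (algebraMap A B) • (⊤ : Submodule B B) ≠ ⊤ := by
    intro h
    exact maximalIdeal_smul_top_ne_top B
      (eq_top_iff.mpr (h.symm.le.trans (Submodule.smul_mono_left hJle)))
  obtain ⟨rs', hlen', hmem', hreg'⟩ :=
    exists_isRegular_of_zeroLocus_eq (IsLocalRing.maximalIdeal B)
      ((IsLocalRing.maximalIdeal A).map (algebraMap A B)) B hfib.symm
      (maximalIdeal_smul_top_ne_top B) hJ n ⟨rs, hlen, hmem, hreg⟩
  have e : (B ⊗[A] A) ≃ₗ[B] B := TensorProduct.AlgebraTensorModule.rid A B B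
  have hreg'' : IsRegular (B ⊗[A] A) rs' := (e.isRegular_congr rs').mpr hreg'
  obtain ⟨rs₀, hlen₀, hmem₀, hreg₀⟩ :=
    D15.exists_isRegular_of_faithfullyFlat (A := A) (B := B) (IsLocalRing.maximalIdeal A) n A
      (maximalIdeal_smul_top_ne_top A) ⟨rs', hlen', hmem', hreg''⟩
  rw [← hlen₀]
  exact D15.le_idealDepth _ A hreg₀.toIsWeaklyRegular hmem₀

/-- For a flat ring map `R → S` and a prime `p` of `R` with `pS ≠ S`, some minimal prime of `pS`
lies over `p`. -/
theorem exists_minimalPrimes_liesOver (R S : Type u) [CommRing R] [CommRing S] [Algebra R S]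
    [Module.Flat R S] (p : Ideal R) [p.IsPrime]
    (hne : p.map (algebraMap R S) ≠ ⊤) :
    ∃ q : Ideal S, q ∈ (p.map (algebraMap R S)).minimalPrimes ∧ q.LiesOver p := by
  obtain ⟨⟨q, hq⟩⟩ := Ideal.nonempty_minimalPrimes hne
  haveI hqp : q.IsPrime := hq.1.1
  have hle : p ≤ q.under R := by
    rw [Ideal.under_def]
    exact Ideal.le_comap_of_map_le hq.1.2
  haveI : q.LiesOver (q.under R) := ⟨rfl⟩
  obtain ⟨q', hq'le, hq'prime, hq'over⟩ :=
    Ideal.exists_ideal_le_liesOver_of_le (p := p) (q := q.under R) q hle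
  have hq'ge : p.map (algebraMap R S) ≤ q' := by
    rw [Ideal.map_le_iff_le_comap, ← Ideal.under_def, ← hq'over.over]
  have hqq' : q ≤ q' := hq.2 ⟨hq'prime, hq'ge⟩ hq'le
  have heq : q' = q := le_antisymm hq'le hqq'
  rw [heq] at hq'over
  exact ⟨q, hq, hq'over⟩

theorem support_self_eq_univ (R : Type u) [CommRing R] : Module.support R R = Set.univ := by
  rw [Set.eq_univ_iff_forall]
  intro p
  rw [Module.mem_support_iff']
  refine ⟨1, fun r hr h => hr ?_⟩
  rw [smul_eq_mul, mul_one] at h
  rw [h]
  exact Ideal.zero_mem _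

/-- Serre's condition `(S_k)` descends along faithfully flat ring maps (S9437). -/
theorem hasSk_of_faithfullyFlat (k : ℕ) (R : Type u) [CommRing R] (S : Type u) [CommRing S]
    [Algebra R S] [Module.FaithfullyFlat R S] [IsNoetherianRing S] (hS : LocCoh.HasSk k S S) :
    IsNoetherianRing R ∧ LocCoh.HasSk k R R := by
  haveI hR : IsNoetherianRing R := isNoetherianRing_of_faithfullyFlat' R S
  refine ⟨hR, ?_⟩
  rw [ZClos.hasSk_iff k (support_self_eq_univ R)]
  rw [ZClos.hasSk_iff k (support_self_eq_univ S)] at hS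
  intro p hp
  have hne : p.map (algebraMap R S) ≠ ⊤ := by
    intro h
    have h1 := Ideal.comap_map_eq_self_of_faithfullyFlat (B := S) p
    rw [h, Ideal.comap_top] at h1
    exact hp.ne_top h1.symm
  obtain ⟨q, hqmin, hqover⟩ := exists_minimalPrimes_liesOver R S p hne
  haveI hq : q.IsPrime := hqmin.1.1
  haveI := hqover
  have hht : p.height ≤ q.height := by
    rw [Ideal.height_eq_height_add_of_liesOver_of_hasGoingDown p q]
    exact le_self_add
  have h1 := hS q
  rw [depth_localizedModule_self] at h1 ⊢
  refine le_trans (min_le_min le_rfl hht) (le_trans h1 ?_)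
  letI := Localization.AtPrime.algebraOfLiesOver p q
  haveI : IsLocalHom (algebraMap (Localization.AtPrime p) (Localization.AtPrime q)) := by
    rw [RingHom.algebraMap_toAlgebra]
    exact Localization.isLocalHom_localRingHom p q (algebraMap R S) Ideal.LiesOver.over
  have hJle : (IsLocalRing.maximalIdeal (Localization.AtPrime p)).map
      (algebraMap (Localization.AtPrime p) (Localization.AtPrime q)) ≤
      IsLocalRing.maximalIdeal (Localization.AtPrime q) :=
    ((IsLocalRing.local_hom_TFAE (algebraMap (Localization.AtPrime p)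
      (Localization.AtPrime q))).out 0 2).mp ‹_›
  apply idealDepth_le_of_flat_of_zeroLocus
  apply le_antisymm
  · intro Q' hQ'
    rw [PrimeSpectrum.mem_zeroLocus] at hQ' ⊢
    have hQ'le : Q'.asIdeal ≤ IsLocalRing.maximalIdeal (Localization.AtPrime q) :=
      IsLocalRing.le_maximalIdeal Q'.2.ne_top
    have hQle : Q'.asIdeal.comap (algebraMap S (Localization.AtPrime q)) ≤ q :=
      (Ideal.comap_mono hQ'le).trans (Localization.AtPrime.under_maximalIdeal (I := q)).le
    have hpQ : p.map (algebraMap R S) ≤ Q'.asIdeal.comap (algebraMap S (Localization.AtPrime q)) := by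
      rw [Ideal.map_le_iff_le_comap]
      intro a ha
      rw [Ideal.mem_comap, Ideal.mem_comap]
      have h2 : algebraMap S (Localization.AtPrime q) (algebraMap R S a) =
          algebraMap (Localization.AtPrime p) (Localization.AtPrime q)
            (algebraMap R (Localization.AtPrime p) a) := by
        rw [RingHom.algebraMap_toAlgebra, Localization.localRingHom_to_map]
      rw [h2]
      apply hQ'
      apply Ideal.mem_map_of_mem
      rw [← Localization.AtPrime.map_eq_maximalIdeal]
      exact Ideal.mem_map_of_mem _ ha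
    have hqQ : q ≤ Q'.asIdeal.comap (algebraMap S (Localization.AtPrime q)) :=
      hqmin.2 ⟨Ideal.IsPrime.comap _, hpQ⟩ hQle
    rw [SetLike.coe_subset_coe, ← Localization.AtPrime.map_eq_maximalIdeal]
    exact (Ideal.map_mono hqQ).trans Ideal.map_comap_le
  · exact PrimeSpectrum.zeroLocus_anti_mono hJle

end Groth.Agent.H14
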