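import Groth.Agent.H14.HenselStd
import Mathlib.RingTheory.Unramified.LocalStructure
import Mathlib.RingTheory.Etale.Locus

set_option autoImplicit false
universe u

namespace Groth.Agent.H14

open IsLocalRing

section

variable {A C L B : Type u} [CommRing A] [CommRing C] [Algebra A C] [Algebra.Etale A C]
  [CommRing L] [IsLocalRing L] [Algebra C L] [Algebra A L] [IsScalarTower A C L]
  [CommRing B] [HenselianLocalRing B] [Algebra A B]

theorem existsUnique_algHom_of_residue_of_atPrime (q : Ideal C) [q.IsPrime]
    [IsLocalization.AtPrime L q]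
    (α : ResidueField L →+* ResidueField B)
    (hα : ∀ a : A, α (residue L (algebraMap A L a)) = residue B (algebraMap A B a)) :
    ∃! ψ' : L →ₐ[A] B, ∀ y, residue B (ψ' y) = α (residue L y) := by
  -- choose a standard etale neighbourhood
  have hEt : Algebra.IsEtaleAt A q := by
    have : Algebra.FormallyEtale C (Localization.AtPrime q) :=
      Algebra.FormallyEtale.of_isLocalization q.primeCompl
    exact Algebra.FormallyEtale.comp A C (Localization.AtPrime q)
  obtain ⟨h, hq, hstd⟩ := Algebra.IsEtaleAt.exists_isStandardEtale (R := A) q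
  -- the map from the neighbourhood to the local ring
  have hunit : ∀ y : Submonoid.powers h, IsUnit ((IsScalarTower.toAlgHom A C L) y) := by
    rintro ⟨_, n, rfl⟩
    rw [map_pow]
    refine IsUnit.pow n ?_
    exact IsLocalization.map_units L (⟨h, hq⟩ : q.primeCompl)
  let ι : Localization.Away h →ₐ[A] L := IsLocalization.liftAlgHom hunit
  have hι : ∀ c : C, ι (algebraMap C (Localization.Away h) c) = algebraMap C L c := by
    intro c
    simp [ι, IsLocalization.liftAlgHom_apply]
  -- the residue-level point
  let αA : ResidueField L →ₐ[A] ResidueField B :=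
    { α with commutes' := fun a => hα a }
  let χb : Localization.Away h →ₐ[A] ResidueField B :=
    αA.comp ((IsScalarTower.toAlgHom A L (ResidueField L)).comp ι)
  have hχb : ∀ c : C, χb (algebraMap C (Localization.Away h) c) =
      α (residue L (algebraMap C L c)) := by
    intro c
    simp only [χb, AlgHom.comp_apply, hι]
    rfl
  obtain ⟨χ, hχ, hχu⟩ := existsUnique_algHom_of_residue (B := B) χb
  -- extend to the local ring
  have hunit' : ∀ y : q.primeCompl,
      IsUnit ((χ.comp (IsScalarTower.toAlgHom A C (Localization.Away h))) y) := by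
    intro y
    rw [← IsLocalRing.residue_ne_zero_iff_isUnit]
    have h1 : residue B ((χ.comp (IsScalarTower.toAlgHom A C (Localization.Away h))) y) =
        α (residue L (algebraMap C L y)) := by
      rw [AlgHom.comp_apply, hχ]
      exact hχb y
    rw [h1]
    have h2 : IsUnit (algebraMap C L y) := IsLocalization.map_units L y
    have h3 : residue L (algebraMap C L y) ≠ 0 :=
      (IsLocalRing.residue_ne_zero_iff_isUnit _).mpr h2
    exact (map_ne_zero α).mpr h3
  let ψ' : L →ₐ[A] B := IsLocalization.liftAlgHom (M := q.primeCompl) hunit'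
  have hψ' : ∀ c : C, ψ' (algebraMap C L c) = χ (algebraMap C (Localization.Away h) c) := by
    intro c
    simp [ψ', IsLocalization.liftAlgHom_apply]
  refine ⟨ψ', ?_, ?_⟩
  · -- residue compatibility
    have hcomp : (residue B).comp ψ'.toRingHom = α.comp (residue L) := by
      refine IsLocalization.ringHom_ext q.primeCompl ?_
      ext c
      simp only [RingHom.comp_apply, AlgHom.toRingHom_eq_coe, RingHom.coe_coe]
      rw [hψ', hχ, hχb]
    intro y
    exact congrArg (fun g => g y) hcomp
  · intro ψ'' hψ''
    have h1 : ψ''.comp ι = χ := by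
      refine hχu _ (fun s => ?_)
      rw [AlgHom.comp_apply, hψ'']
      rfl
    have h2 : ψ''.toRingHom = ψ'.toRingHom := by
      refine IsLocalization.ringHom_ext q.primeCompl ?_
      ext c
      simp only [RingHom.comp_apply, AlgHom.toRingHom_eq_coe, RingHom.coe_coe]
      rw [hψ', ← h1, AlgHom.comp_apply, hι]
    exact AlgHom.ext (fun y => congrArg (fun g => g y) h2)

end

end Groth.Agent.H14
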