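import Groth.Agent.Lead.RegularFlatDescent
import Groth.Prelude.Def_CAlg

set_option autoImplicit false
set_option linter.style.haveILetI false
universe u

namespace Groth.Agent.H14

/-- Faithfully flat descent of the Noetherian property. -/
theorem isNoetherianRing_of_faithfullyFlat' (A B : Type*) [CommRing A] [CommRing B] [Algebra A B]
    [Module.FaithfullyFlat A B] [IsNoetherianRing B] : IsNoetherianRing A := by
  rw [isNoetherianRing_iff, isNoetherian_iff']
  have hmono : StrictMono (Ideal.map (algebraMap A B)) :=
    Monotone.strictMono_of_injective (fun _ _ h => Ideal.map_mono h)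
      Ideal.map_injective_of_faithfullyFlat
  have : WellFoundedGT (Ideal B) := (isNoetherian_iff' (R := B) (M := B)).mp inferInstance
  exact hmono.wellFoundedGT

/-- For a flat ring map `R → S` with `S` Noetherian and a prime `p` of `R` with `pS ≠ S`, there is
a prime `q` of `S` lying over `p` with `ht q ≤ ht p`. -/
theorem exists_liesOver_height_le (R S : Type u) [CommRing R] [CommRing S] [Algebra R S]
    [Module.Flat R S] [IsNoetherianRing R] [IsNoetherianRing S] (p : Ideal R) [p.IsPrime]
    (hne : p.map (algebraMap R S) ≠ ⊤) :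
    ∃ q : Ideal S, q.IsPrime ∧ q.LiesOver p ∧ q.height ≤ p.height := by
  obtain ⟨⟨q, hq⟩⟩ := Ideal.nonempty_minimalPrimes hne
  haveI hqp : q.IsPrime := hq.1.1
  have hle : p ≤ q.under R := by
    rw [Ideal.under_def]
    exact Ideal.le_comap_of_map_le hq.1.2
  haveI : q.LiesOver (q.under R) := ⟨rfl⟩
  obtain ⟨q', hq'le, hq'prime, hq'over⟩ :=
    Ideal.exists_ideal_le_liesOver_of_le (p := p) (q := q.under R) q hle
  have hq'ge : p.map (algebraMap R S) ≤ q' := by
    rw [Ideal.map_le_iff_le_comap, ← Ideal.under_def, ← hq'over.over]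
  have hqq' : q ≤ q' := hq.2 ⟨hq'prime, hq'ge⟩ hq'le
  have heq : q' = q := le_antisymm hq'le hqq'
  rw [heq] at hq'over
  haveI := hq'over
  refine ⟨q, hqp, hq'over, ?_⟩
  have h1 := Ideal.height_le_height_add_of_liesOver p q
  have h2 : (q.map (Ideal.Quotient.mk (p.map (algebraMap R S)))).height = 0 := by
    rw [Ideal.minimalPrimes_eq_comap] at hq
    obtain ⟨Q', hQ', rfl⟩ := hq
    rw [Ideal.map_comap_of_surjective _ Ideal.Quotient.mk_surjective]
    haveI := hQ'.1.1
    exact Ideal.height_eq_zero_iff.mpr hQ'
  rw [h2, add_zero] at h1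
  exact h1

/-- (R_k) descends along faithfully flat ring maps (S9438). -/
theorem hasRk_of_faithfullyFlat (k : ℕ) (R : Type u) [CommRing R] (S : Type u) [CommRing S]
    [Algebra R S] [Module.FaithfullyFlat R S] [IsNoetherianRing S] (hS : LocCoh.HasRk k S) :
    IsNoetherianRing R ∧ LocCoh.HasRk k R := by
  haveI hR : IsNoetherianRing R := isNoetherianRing_of_faithfullyFlat' R S
  refine ⟨hR, ?_⟩
  intro p hp hpk
  have hne : p.map (algebraMap R S) ≠ ⊤ := by
    intro h
    have h1 := Ideal.comap_map_eq_self_of_faithfullyFlat (B := S) p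
    rw [h, Ideal.comap_top] at h1
    exact hp.ne_top h1.symm
  obtain ⟨q, hq, hqover, hqh⟩ := exists_liesOver_height_le R S p hne
  haveI hreg : IsRegularLocalRing (Localization.AtPrime q) := hS q (hqh.trans hpk)
  letI := Localization.AtPrime.algebraOfLiesOver p q
  haveI : IsLocalHom (algebraMap (Localization.AtPrime p) (Localization.AtPrime q)) := by
    rw [RingHom.algebraMap_toAlgebra]
    exact Localization.isLocalHom_localRingHom p q (algebraMap R S) Ideal.LiesOver.over
  exact Groth.Agent.Lead.RLR.isRegularLocalRing_of_flat (Localization.AtPrime p)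
    (Localization.AtPrime q)

end Groth.Agent.H14
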