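import Mathlib.RingTheory.Henselian
import Mathlib.RingTheory.Etale.StandardEtale
import Mathlib.RingTheory.LocalRing.ResidueField.Basic

set_option autoImplicit false
universe u v

namespace Groth.Agent.H14

open Polynomial IsLocalRing

section

variable {R : Type u} [CommRing R] [IsLocalRing R]

theorem root_unique_of_residue_eq (f : R[X]) (t t' : R) (ht : f.eval t = 0) (ht' : f.eval t' = 0)
    (hres : residue R t = residue R t') (hu : IsUnit (f.derivative.eval t)) : t = t' := by
  obtain ⟨k, hk⟩ := Polynomial.binomExpansion f t (t' - t)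
  rw [add_sub_cancel, ht, ht', zero_add] at hk
  have hy : t' - t ∈ maximalIdeal R := by
    rw [← Ideal.Quotient.eq_zero_iff_mem]
    change residue R (t' - t) = 0
    rw [map_sub, hres, sub_self]
  have hunit : IsUnit (f.derivative.eval t + k * (t' - t)) := by
    rw [← IsLocalRing.residue_ne_zero_iff_isUnit, map_add, map_mul]
    have : residue R (t' - t) = 0 := by
      rw [map_sub, hres, sub_self]
    rw [this, mul_zero, add_zero, IsLocalRing.residue_ne_zero_iff_isUnit]
    exact hu
  have h0 : (f.derivative.eval t + k * (t' - t)) * (t' - t) = 0 := by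
    rw [hk]; ring
  have := (hunit.mul_right_eq_zero).mp h0
  exact (sub_eq_zero.mp this).symm

end

section

variable {A : Type u} {B : Type v} [CommRing A] [CommRing B] [HenselianLocalRing B] [Algebra A B]

theorem existsUnique_hasMap_of_residue (P : StandardEtalePair A) (tb : ResidueField B)
    (h : P.HasMap tb) : ∃! t : B, P.HasMap t ∧ residue B t = tb := by
  have hres : ∀ (p : A[X]) (b : B), residue B (aeval b p) = aeval (residue B b) p := by
    intro p b
    rw [aeval_def, aeval_def, hom_eval₂]
    rfl
  have hH := (HenselianLocalRing.TFAE B).out 0 1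
  have hex := hH.mp inferInstance (P.f.map (algebraMap A B)) (P.monic_f.map _) tb
    (by rw [aeval_map_algebraMap]; exact h.1)
    (by rw [derivative_map, aeval_map_algebraMap]; exact h.isUnit_derivative_f.ne_zero)
  obtain ⟨a, ha, hab⟩ := hex
  have haf : aeval a P.f = 0 := by
    rw [← eval_map_algebraMap]; exact ha
  have hag : IsUnit (aeval a P.g) := by
    rw [← IsLocalRing.residue_ne_zero_iff_isUnit, hres, hab]
    exact h.2.ne_zero
  refine ⟨a, ⟨⟨haf, hag⟩, hab⟩, ?_⟩
  rintro t ⟨htm, htr⟩
  symm
  refine root_unique_of_residue_eq (P.f.map (algebraMap A B)) a t ha ?_ (hab.trans htr.symm) ?_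
  · rw [eval_map_algebraMap]; exact htm.1
  · rw [derivative_map, eval_map_algebraMap]
    exact StandardEtalePair.HasMap.isUnit_derivative_f (P := P) ⟨haf, hag⟩

/-- lifting of residue-level points of a standard etale algebra to a henselian local ring -/
theorem existsUnique_algHom_of_residue {S : Type v} [CommRing S] [Algebra A S]
    [Algebra.IsStandardEtale A S] (χb : S →ₐ[A] ResidueField B) :
    ∃! χ : S →ₐ[A] B, ∀ s, residue B (χ s) = χb s := by
  let Pr : StandardEtalePresentation A S :=
    Algebra.IsStandardEtale.nonempty_standardEtalePresentation.some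
  have hmap : Pr.P.HasMap (χb Pr.x) := Pr.hasMap.map χb
  obtain ⟨t, ⟨htm, htr⟩, htu⟩ := existsUnique_hasMap_of_residue (B := B) Pr.P (χb Pr.x) hmap
  let χ : S →ₐ[A] B := (Pr.P.lift t htm).comp Pr.equivRing.toAlgHom
  have hχx : χ Pr.x = t := by
    simp [χ]
  refine ⟨χ, ?_, ?_⟩
  · intro s
    have : (IsScalarTower.toAlgHom A B (ResidueField B)).comp χ = χb := by
      refine Pr.hom_ext ?_
      rw [AlgHom.comp_apply, hχx]
      exact htr
    exact congrArg (fun g => g s) this
  · intro χ' hχ'
    refine Pr.hom_ext ?_
    rw [hχx]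
    exact htu _ ⟨Pr.hasMap.map χ', hχ' Pr.x⟩

end

end Groth.Agent.H14
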