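import Groth.Agent.H14.RegularCM

set_option autoImplicit false
set_option linter.style.haveILetI false
universe u

namespace Groth.Agent.H14

open IsLocalRing

/-- Generators of `I/J` lift, together with generators of `J`, to generators of `I`. -/
theorem spanFinrank_le_map_mk_add {R : Type u} [CommRing R] [IsNoetherianRing R] (I J : Ideal R)
    (hJI : J ≤ I) :
    I.spanFinrank ≤ (I.map (Ideal.Quotient.mk J)).spanFinrank + J.spanFinrank := by
  classical
  obtain ⟨s', hs'card, hs'span⟩ := Submodule.FG.exists_span_finset_card_eq_spanFinrank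
    (p := I.map (Ideal.Quotient.mk J)) (Ideal.fg_of_isNoetherianRing _)
  obtain ⟨t, htcard, htspan⟩ := Submodule.FG.exists_span_finset_card_eq_spanFinrank
    (p := J) (Ideal.fg_of_isNoetherianRing _)
  have hsurj : Function.Surjective (Ideal.Quotient.mk J) := Ideal.Quotient.mk_surjective
  -- lift each element of `s'` to an element of `I`
  have hlift : ∀ y ∈ s', ∃ x ∈ I, Ideal.Quotient.mk J x = y := by
    intro y hy
    have hy' : y ∈ I.map (Ideal.Quotient.mk J) := by
      rw [← hs'span]
      exact Submodule.subset_span hy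
    exact (Ideal.mem_map_iff_of_surjective _ hsurj).mp hy'
  choose! g hgI hg using hlift
  let s : Finset R := s'.image g
  have hs : (Ideal.Quotient.mk J) '' (s : Set R) = (s' : Set _) := by
    ext y
    simp only [s, Finset.coe_image, Set.mem_image, Finset.mem_coe]
    constructor
    · rintro ⟨x, ⟨y', hy', rfl⟩, rfl⟩
      rw [hg y' hy']
      exact hy'
    · intro hy
      exact ⟨g y, ⟨y, hy, rfl⟩, hg y hy⟩
  have hle : I ≤ Ideal.span ((t : Set R) ∪ (s : Set R)) := by
    intro y hy
    have hy' : Ideal.Quotient.mk J y ∈ (Ideal.span (s : Set R)).map (Ideal.Quotient.mk J) := by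
      rw [Ideal.map_span, hs]
      change _ ∈ Submodule.span _ (s' : Set (R ⧸ J))
      rw [hs'span]
      exact Ideal.mem_map_of_mem _ hy
    rw [Ideal.mem_map_iff_of_surjective _ hsurj] at hy'
    obtain ⟨z, hz, hzy⟩ := hy'
    have hyz : y - z ∈ J := by
      rw [← Ideal.Quotient.eq_zero_iff_mem, map_sub, hzy, sub_self]
    rw [Ideal.span_union]
    have : y = (y - z) + z := by ring
    rw [this]
    refine Ideal.add_mem _ (Ideal.mem_sup_left ?_) (Ideal.mem_sup_right hz)
    change y - z ∈ Submodule.span R (t : Set R)
    rw [htspan]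
    exact hyz
  have hge : Ideal.span ((t : Set R) ∪ (s : Set R)) ≤ I := by
    rw [Ideal.span_le]
    intro y hy
    rcases hy with hy | hy
    · apply hJI
      rw [← htspan]
      exact Submodule.subset_span hy
    · simp only [s, Finset.coe_image, Set.mem_image, Finset.mem_coe] at hy
      obtain ⟨y', hy', rfl⟩ := hy
      exact hgI y' hy'
  have heq : I = Ideal.span ((t : Set R) ∪ (s : Set R)) := le_antisymm hle hge
  conv_lhs => rw [heq]
  have hfin : ((t : Set R) ∪ (s : Set R)).Finite := (t.finite_toSet).union (s.finite_toSet)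
  refine (Submodule.spanFinrank_span_le_ncard_of_finite hfin).trans ?_
  refine (Set.ncard_union_le _ _).trans ?_
  rw [Set.ncard_coe_finset, Set.ncard_coe_finset, ← hs'card, ← htcard, add_comm]
  exact Nat.add_le_add_right Finset.card_image_le _

/-- Regularity ascends along a flat local homomorphism with regular closed fibre. -/
theorem isRegularLocalRing_of_flat_of_regular_fibre (A B : Type u) [CommRing A] [CommRing B]
    [Algebra A B] [IsRegularLocalRing A] [IsNoetherianRing B] [IsLocalRing B]
    [IsLocalHom (algebraMap A B)] [Module.Flat A B]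
    [IsRegularLocalRing (B ⧸ (maximalIdeal A).map (algebraMap A B))] : IsRegularLocalRing B := by
  apply IsRegularLocalRing.of_spanFinrank_maximalIdeal_le
  rw [H72.FlatCM.ringKrullDim_eq_add_of_flat (A := A) (B := B),
    Groth.Agent.Lead.RLR.ringKrullDim_eq_spanFinrank A,
    Groth.Agent.Lead.RLR.ringKrullDim_eq_spanFinrank (B ⧸ (maximalIdeal A).map (algebraMap A B))]
  have h1 := spanFinrank_le_map_mk_add (maximalIdeal B) ((maximalIdeal A).map (algebraMap A B))
    (H72.FlatCM.mB_le (A := A) (B := B))
  rw [H72.FlatCM.map_mk_maximalIdeal _ (H72.FlatCM.mB_ne_top (A := A) (B := B))] at h1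
  have h2 : ((maximalIdeal A).map (algebraMap A B)).spanFinrank ≤ (maximalIdeal A).spanFinrank :=
    Ideal.spanFinrank_map_le_of_fg _ (Ideal.fg_of_isNoetherianRing _)
  have h3 : (maximalIdeal B).spanFinrank ≤ (maximalIdeal A).spanFinrank +
      (maximalIdeal (B ⧸ (maximalIdeal A).map (algebraMap A B))).spanFinrank := by omega
  exact_mod_cast h3

end Groth.Agent.H14
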