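import Groth.Agent.H14.SerreLoc
import Groth.Agent.H14.RegularNormal
import Groth.Agent.H14.D15.DepthLoc

set_option autoImplicit false
set_option linter.style.haveILetI false
universe u

namespace Groth.Agent.H14

/-- In a Noetherian integrally closed domain, `b ^ n ∣ d * a ^ n` for all `n` (with `b, d ≠ 0`)
forces `b ∣ a`. -/
theorem dvd_of_forall_pow_dvd_mul {R : Type u} [CommRing R] [IsDomain R]
    [IsNoetherianRing R] [IsIntegrallyClosed R] {a b d : R} (hb : b ≠ 0) (hd : d ≠ 0)
    (h : ∀ n, b ^ n ∣ d * a ^ n) : b ∣ a := by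
  have hbK : algebraMap R (FractionRing R) b ≠ 0 :=
    IsFractionRing.to_map_ne_zero_of_mem_nonZeroDivisors (mem_nonZeroDivisors_of_ne_zero hb)
  have hai : IsAlmostIntegral R
      (algebraMap R (FractionRing R) a / algebraMap R (FractionRing R) b) := by
    refine ⟨d, mem_nonZeroDivisors_of_ne_zero hd, fun n => ?_⟩
    obtain ⟨c, hc⟩ := h n
    refine ⟨c, ?_⟩
    have h1 : algebraMap R (FractionRing R) d * algebraMap R (FractionRing R) a ^ n =
        algebraMap R (FractionRing R) b ^ n * algebraMap R (FractionRing R) c := by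
      rw [← map_pow, ← map_pow, ← map_mul, ← map_mul, hc]
    rw [Algebra.smul_def, div_pow]
    have hbn : algebraMap R (FractionRing R) b ^ n ≠ 0 := pow_ne_zero _ hbK
    field_simp
    linear_combination -h1
  have hint : IsIntegral R
      (algebraMap R (FractionRing R) a / algebraMap R (FractionRing R) b) := hai.isIntegral
  obtain ⟨e, he⟩ := IsIntegrallyClosed.isIntegral_iff.mp hint
  refine ⟨e, ?_⟩
  apply IsFractionRing.injective R (FractionRing R)
  rw [map_mul, he]
  field_simp

theorem isSMulRegular_of_mem_nonZeroDivisors {C : Type u} [CommRing C] {b : C}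
    (hb : b ∈ nonZeroDivisors C) : IsSMulRegular C b := by
  rw [isSMulRegular_iff_right_eq_zero_of_smul]
  intro x hx
  refine (mem_nonZeroDivisors_iff_right.mp hb) x ?_
  rw [mul_comm]
  exact hx

/-- Key lemma: in a Noetherian ring with `(R_1)` and `(S_2)`, bounded denominators are trivial. -/
theorem dvd_of_bdd_of_R1_S2 (C : Type u) [CommRing C] [IsNoetherianRing C]
    (hR : LocCoh.HasRk 1 C) (hS : LocCoh.HasSk 2 C C) {a b d : C}
    (hb : b ∈ nonZeroDivisors C) (hd : d ∈ nonZeroDivisors C)
    (h : ∀ n, b ^ n ∣ d * a ^ n) : b ∣ a := by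
  by_contra hba
  have hx : (Submodule.Quotient.mk a : QuotSMulTop b C) ≠ 0 := by
    rw [Ne, Submodule.Quotient.mk_eq_zero]
    intro hmem
    obtain ⟨c, -, hc⟩ := (Submodule.mem_smul_pointwise_iff_exists _ _ _).mp hmem
    exact hba ⟨c, by rw [← hc, smul_eq_mul]⟩
  obtain ⟨P, hPass, hPle⟩ := exists_le_isAssociatedPrime_of_isNoetherianRing C _ hx
  haveI hPprime : P.IsPrime := hPass.isPrime
  have hbP : b ∈ P := by
    apply hPle
    rw [Submodule.mem_colon_singleton, ← Submodule.Quotient.mk_smul, Submodule.mem_bot,
      Submodule.Quotient.mk_eq_zero, smul_eq_mul]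
    exact Submodule.smul_mem_pointwise_smul a b ⊤ Submodule.mem_top
  have hbreg : IsSMulRegular C b := isSMulRegular_of_mem_nonZeroDivisors hb
  have h0 := D15.depth_localization_eq_zero_of_mem_associatedPrimes (QuotSMulTop b C) P hPass
  have hlt : ¬ ((2 : ℕ∞) ≤ LocCoh.depth (Localization.AtPrime P)
      (LocalizedModule P.primeCompl C)) := by
    intro h2
    have h1 := D15.le_depth_localization_quotSMulTop C P b hbP hbreg 1 (by simpa using h2)
    have := h1.trans h0
    simp at this
  have hS' := (ZClos.hasSk_iff 2 (support_self_eq_univ C)).mp hS P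
  have hht : P.height ≤ 1 := by
    by_contra hcon
    rw [not_le] at hcon
    have h2 : (2 : ℕ∞) ≤ P.height := by
      have := Order.add_one_le_of_lt hcon
      rwa [one_add_one_eq_two] at this
    rw [Nat.cast_ofNat, min_eq_left h2] at hS'
    exact hlt hS'
  haveI hreg := hR P (by exact_mod_cast hht)
  haveI : IsDomain (Localization.AtPrime P) := Groth.Agent.Lead.RLR.isDomain _
  haveI : IsIntegrallyClosed (Localization.AtPrime P) := isIntegrallyClosed_of_isRegularLocalRing _
  have hb' : algebraMap C (Localization.AtPrime P) b ≠ 0 :=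
    nonZeroDivisors.ne_zero (IsLocalization.map_nonZeroDivisors_le P.primeCompl
      (Localization.AtPrime P) (Submonoid.mem_map_of_mem _ hb))
  have hd' : algebraMap C (Localization.AtPrime P) d ≠ 0 :=
    nonZeroDivisors.ne_zero (IsLocalization.map_nonZeroDivisors_le P.primeCompl
      (Localization.AtPrime P) (Submonoid.mem_map_of_mem _ hd))
  have key : algebraMap C (Localization.AtPrime P) b ∣ algebraMap C (Localization.AtPrime P) a := by
    apply dvd_of_forall_pow_dvd_mul hb' hd'
    intro n
    have := map_dvd (algebraMap C (Localization.AtPrime P)) (h n)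
    simpa only [map_mul, map_pow] using this
  obtain ⟨c, hc⟩ := key
  obtain ⟨⟨r, s⟩, hrs⟩ := IsLocalization.surj P.primeCompl c
  have heq : algebraMap C (Localization.AtPrime P) (a * s) =
      algebraMap C (Localization.AtPrime P) (b * r) := by
    rw [map_mul, map_mul, hc, ← hrs]
    ring
  obtain ⟨u, hu⟩ := (IsLocalization.eq_iff_exists P.primeCompl (Localization.AtPrime P)).mp heq
  have hmem : (u : C) * s ∈ P := by
    apply hPle
    rw [Submodule.mem_colon_singleton, ← Submodule.Quotient.mk_smul, Submodule.mem_bot,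
      Submodule.Quotient.mk_eq_zero, smul_eq_mul]
    have : (u : C) * s * a = b • ((u : C) * r) := by
      rw [smul_eq_mul]
      linear_combination hu
    rw [this]
    exact Submodule.smul_mem_pointwise_smul _ b ⊤ Submodule.mem_top
  rcases hPprime.mem_or_mem hmem with h1 | h1
  · exact u.2 h1
  · exact s.2 h1

section Abstract

variable {C : Type u} [CommRing C]

/-- The abstract "completely integrally closed in the total ring of fractions" property. -/
def BddDvd (C : Type u) [CommRing C] : Prop :=
  ∀ a b d : C, b ∈ nonZeroDivisors C → d ∈ nonZeroDivisors C → (∀ n, b ^ n ∣ d * a ^ n) → b ∣ a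

/-- In a reduced Noetherian ring, `J + Ann J` contains a non-zero-divisor. -/
theorem exists_add_mem_nonZeroDivisors [IsNoetherianRing C] [IsReduced C] (J : Ideal C) :
    ∃ u ∈ J, ∃ v ∈ J.annihilator, u + v ∈ nonZeroDivisors C := by
  by_contra hcon
  push Not at hcon
  rcases subsingleton_or_nontrivial C with hC | hC
  · exact hcon 0 J.zero_mem 0 (Ideal.zero_mem _) (by
      rw [Subsingleton.elim (0 + 0 : C) 1]; exact one_mem _)
  have hsub : ((J ⊔ J.annihilator : Ideal C) : Set C) ⊆ ⋃ P ∈ associatedPrimes C C, (P : Set C) := by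
    intro w hw
    obtain ⟨u, hu, v, hv, rfl⟩ := Submodule.mem_sup.mp hw
    rw [biUnion_associatedPrimes_eq_compl_regular C C]
    intro hreg
    apply hcon u hu v hv
    rw [mem_nonZeroDivisors_iff_right]
    intro x hx
    have : (u + v) • x = (u + v) • (0 : C) := by rw [smul_zero, smul_eq_mul, mul_comm]; exact hx
    exact hreg this
  obtain ⟨P, hPass, hle⟩ : ∃ P ∈ associatedPrimes C C, J ⊔ J.annihilator ≤ P := by
    rcases associatedPrimes.nonempty C C with ⟨Ia, hIa⟩
    apply (Ideal.subset_union_prime_finite (associatedPrimes.finite C C) Ia Ia _).mp hsub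
    exact fun I hin _ _ ↦ IsAssociatedPrime.isPrime hin
  obtain ⟨hprime, z, hz⟩ := isAssociatedPrime_iff.mp (AssociatedPrimes.mem_iff.mp hPass)
  have hzJ : z ∈ J.annihilator := by
    rw [Submodule.mem_annihilator]
    intro j hj
    have : j ∈ P := hle (Ideal.mem_sup_left hj)
    rw [hz, Submodule.mem_colon_singleton, Submodule.mem_bot] at this
    rw [smul_eq_mul, mul_comm]
    exact this
  have hzP : z ∈ P := hle (Ideal.mem_sup_right hzJ)
  rw [hz, Submodule.mem_colon_singleton, Submodule.mem_bot, smul_eq_mul] at hzP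
  have hz0 : z = 0 := by
    have : z ^ 2 = 0 := by rw [pow_two]; exact hzP
    exact eq_zero_of_pow_eq_zero this
  apply hprime.ne_top
  rw [hz, hz0, eq_top_iff]
  intro r _
  rw [Submodule.mem_colon_singleton, smul_zero]
  exact Submodule.zero_mem _

/-- A reduced Noetherian local ring with bounded-denominator divisibility is a domain. -/
theorem noZeroDivisors_of_bddDvd [IsNoetherianRing C] [IsLocalRing C] [IsReduced C]
    (hC : BddDvd C) : NoZeroDivisors C := by
  refine ⟨fun {x y} hxy => ?_⟩
  by_contra hcon
  push Not at hcon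
  obtain ⟨hx0, hy0⟩ := hcon
  obtain ⟨u, hu, v, hv, hb⟩ := exists_add_mem_nonZeroDivisors (Ideal.span {y}).annihilator
  have huv : u * v = 0 := by
    rw [Submodule.mem_annihilator] at hv
    have := hv u hu
    rwa [smul_eq_mul, mul_comm] at this
  have hub : u * (u + v) = u ^ 2 := by rw [mul_add, huv, add_zero, pow_two]
  have hpow : ∀ n : ℕ, u ^ (n + 1) = u * (u + v) ^ n := by
    intro n
    induction n with
    | zero => simp
    | succ n ih => rw [pow_succ, ih, pow_succ (u + v)]; linear_combination ((u + v) ^ n) * hub.symm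
  have hdvd : u + v ∣ u := by
    apply hC u (u + v) (u + v) hb hb
    intro n
    cases n with
    | zero => simp
    | succ n =>
      refine ⟨u, ?_⟩
      rw [hpow n]
      ring
  obtain ⟨c, hc⟩ := hdvd
  have hcc : c * (c - 1) = 0 := by
    have h1 : (u + v) * ((u + v) * (c * (c - 1))) = 0 := by
      have : (u + v) * ((u + v) * (c * (c - 1))) = ((u + v) * c) ^ 2 - ((u + v) * c) * (u + v) := by
        ring
      rw [this, ← hc, hub.symm]
      ring
    have h2 := (mem_nonZeroDivisors_iff.mp hb).1 _ h1
    exact (mem_nonZeroDivisors_iff.mp hb).1 _ h2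
  rcases IsLocalRing.isUnit_or_isUnit_one_sub_self c with hcu | hcu
  · -- `c = 1`, so `u = u + v` is a non-zero-divisor killing `y`
    have hc1 : c - 1 = 0 := hcu.mul_right_eq_zero.mp hcc
    have hc1' : c = 1 := sub_eq_zero.mp hc1
    rw [hc1', mul_one] at hc
    rw [Submodule.mem_annihilator] at hu
    have h3 := hu y (Ideal.mem_span_singleton_self y)
    rw [smul_eq_mul, hc] at h3
    exact hy0 ((mem_nonZeroDivisors_iff.mp hb).1 _ h3)
  · -- `c = 0`, so `u = 0` and `v` is a non-zero-divisor killing `x`
    have hc0 : c = 0 := by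
      have : (1 - c) * c = 0 := by linear_combination -hcc
      exact hcu.mul_right_eq_zero.mp this
    rw [hc0, mul_zero] at hc
    rw [hc, zero_add] at hb
    have hxJ : x ∈ (Ideal.span {y}).annihilator := by
      rw [Submodule.mem_annihilator]
      intro w hw
      obtain ⟨r, rfl⟩ := Ideal.mem_span_singleton'.mp hw
      rw [smul_eq_mul]
      linear_combination r * hxy
    rw [Submodule.mem_annihilator] at hv
    have h3 := hv x hxJ
    rw [smul_eq_mul] at h3
    exact hx0 ((mem_nonZeroDivisors_iff.mp hb).1 _ h3)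

/-- A Noetherian local ring with bounded-denominator divisibility and a regular element in the
maximal ideal is reduced. -/
theorem isReduced_of_bddDvd [IsNoetherianRing C] [IsLocalRing C] (hC : BddDvd C) {t : C}
    (ht : t ∈ IsLocalRing.maximalIdeal C) (hreg : t ∈ nonZeroDivisors C) : IsReduced C := by
  have step : ∀ x : C, IsNilpotent x → ∃ x', x = t * x' ∧ IsNilpotent x' := by
    rintro x ⟨m, hm⟩
    have hdvd : t ∣ x := by
      apply hC x t (t ^ m) hreg (pow_mem hreg m)
      intro n
      rcases le_or_gt m n with hmn | hmn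
      · rw [pow_eq_zero_of_le hmn hm, mul_zero]
        exact dvd_zero _
      · exact Dvd.dvd.mul_right (pow_dvd_pow t hmn.le) _
    obtain ⟨x', rfl⟩ := hdvd
    refine ⟨x', rfl, m, ?_⟩
    rw [mul_pow] at hm
    exact (mem_nonZeroDivisors_iff.mp (pow_mem hreg m)).1 _ hm
  have hall : ∀ n : ℕ, ∀ x : C, IsNilpotent x → t ^ n ∣ x := by
    intro n
    induction n with
    | zero => intro x _; simp
    | succ n ih =>
      intro x hx
      obtain ⟨x', rfl, hx'⟩ := step x hx
      rw [pow_succ']
      exact mul_dvd_mul_left t (ih x' hx')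
  refine ⟨fun x hx => ?_⟩
  exact eq_zero_of_forall_pow_dvd ht (fun n => hall n x hx)

/-- A Noetherian domain with bounded-denominator divisibility is integrally closed. -/
theorem isIntegrallyClosed_of_bddDvd [IsDomain C] (hC : BddDvd C) : IsIntegrallyClosed C := by
  refine (isIntegrallyClosed_iff (FractionRing C)).mpr ?_
  intro x hx
  obtain ⟨d, hd, hd'⟩ := hx.isAlmostIntegral
  obtain ⟨a, b, hb, rfl⟩ := IsFractionRing.div_surjective (A := C) x
  have hbK : algebraMap C (FractionRing C) b ≠ 0 :=
    IsFractionRing.to_map_ne_zero_of_mem_nonZeroDivisors hb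
  have hdvd : b ∣ a := by
    apply hC a b d hb hd
    intro n
    obtain ⟨c, hc⟩ := hd' n
    refine ⟨c, ?_⟩
    apply IsFractionRing.injective C (FractionRing C)
    rw [Algebra.smul_def, div_pow] at hc
    have hbn : algebraMap C (FractionRing C) b ^ n ≠ 0 := pow_ne_zero _ hbK
    simp only [map_mul, map_pow]
    rw [hc]
    field_simp
  obtain ⟨e, rfl⟩ := hdvd
  refine ⟨e, ?_⟩
  rw [map_mul]
  field_simp

end Abstract

/-- Serre's criterion, local form: a Noetherian local ring with `(R_1)` and `(S_2)` is an integrally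
closed domain. -/
theorem isDomain_and_isIntegrallyClosed_of_R1_S2 (C : Type u) [CommRing C] [IsNoetherianRing C]
    [IsLocalRing C] (hR : LocCoh.HasRk 1 C) (hS : LocCoh.HasSk 2 C C) :
    IsDomain C ∧ IsIntegrallyClosed C := by
  have hC : BddDvd C := fun a b d hb hd h => dvd_of_bdd_of_R1_S2 C hR hS hb hd h
  by_cases hex : ∃ t ∈ IsLocalRing.maximalIdeal C, t ∈ nonZeroDivisors C
  · obtain ⟨t, ht, hreg⟩ := hex
    haveI := isReduced_of_bddDvd hC ht hreg
    haveI := noZeroDivisors_of_bddDvd hC
    haveI : IsDomain C := NoZeroDivisors.to_isDomain C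
    exact ⟨inferInstance, isIntegrallyClosed_of_bddDvd hC⟩
  · -- the maximal ideal consists of zero divisors: it is an associated prime
    push Not at hex
    have hsub : ((IsLocalRing.maximalIdeal C : Ideal C) : Set C) ⊆
        ⋃ P ∈ associatedPrimes C C, (P : Set C) := by
      intro w hw
      rw [biUnion_associatedPrimes_eq_compl_regular C C]
      intro hreg
      apply hex w hw
      rw [mem_nonZeroDivisors_iff_right]
      intro x hx
      have : w • x = w • (0 : C) := by rw [smul_zero, smul_eq_mul, mul_comm]; exact hx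
      exact hreg this
    obtain ⟨P, hPass, hle⟩ : ∃ P ∈ associatedPrimes C C, IsLocalRing.maximalIdeal C ≤ P := by
      rcases associatedPrimes.nonempty C C with ⟨Ia, hIa⟩
      apply (Ideal.subset_union_prime_finite (associatedPrimes.finite C C) Ia Ia _).mp hsub
      exact fun I hin _ _ ↦ IsAssociatedPrime.isPrime hin
    have hPprime : P.IsPrime := IsAssociatedPrime.isPrime hPass
    have hPeq : P = IsLocalRing.maximalIdeal C :=
      ((IsLocalRing.maximalIdeal.isMaximal C).eq_of_le hPprime.ne_top hle).symm
    rw [hPeq] at hPass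
    have h0 := D15.depth_localization_eq_zero_of_mem_associatedPrimes C
      (IsLocalRing.maximalIdeal C) hPass
    have hS' := (ZClos.hasSk_iff 2 (support_self_eq_univ C)).mp hS (IsLocalRing.maximalIdeal C)
    have hht : (IsLocalRing.maximalIdeal C).height ≤ 1 := by
      have h1 := hS'.trans h0
      rcases le_total ((2 : ℕ) : ℕ∞) (IsLocalRing.maximalIdeal C).height with h2 | h2
      · rw [min_eq_left h2] at h1
        simp at h1
      · rw [min_eq_right h2] at h1
        exact h1.trans zero_le_one
    haveI hreg := hR (IsLocalRing.maximalIdeal C) (by exact_mod_cast hht)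
    let e : C ≃+* Localization.AtPrime (IsLocalRing.maximalIdeal C) :=
      (IsLocalization.atUnits C (IsLocalRing.maximalIdeal C).primeCompl (fun x hx => by
        rw [IsUnit.mem_submonoid_iff]
        exact IsLocalRing.notMem_maximalIdeal.mp hx)).toRingEquiv
    haveI : IsDomain (Localization.AtPrime (IsLocalRing.maximalIdeal C)) :=
      Groth.Agent.Lead.RLR.isDomain _
    haveI : IsIntegrallyClosed (Localization.AtPrime (IsLocalRing.maximalIdeal C)) :=
      isIntegrallyClosed_of_isRegularLocalRing _
    exact ⟨e.toMulEquiv.isDomain _, IsIntegrallyClosed.of_equiv e.symm⟩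

end Groth.Agent.H14
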