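import Groth.Agent.H14.SkDescent
import Groth.Agent.H72.DepthLocIneq
import Groth.Agent.H72.DepthFinite

set_option autoImplicit false
set_option linter.style.haveILetI false
universe u

open RingTheory.Sequence

namespace Groth.Agent.H14

/-- Depth drops by at most one on dividing a local ring by a regular element of the maximal
ideal. -/
theorem idealDepth_quotient_add_one_le (C : Type u) [CommRing C] [IsNoetherianRing C]
    [IsLocalRing C] (t : C) (ht : t ∈ IsLocalRing.maximalIdeal C) (hreg : IsSMulRegular C t)
    [IsLocalRing (C ⧸ Ideal.span {t})] :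
    LocCoh.idealDepth (IsLocalRing.maximalIdeal (C ⧸ Ideal.span {t})) (C ⧸ Ideal.span {t}) + 1 ≤
      LocCoh.idealDepth (IsLocalRing.maximalIdeal C) C := by
  have hmap : (IsLocalRing.maximalIdeal C).map (algebraMap C (C ⧸ Ideal.span {t})) =
      IsLocalRing.maximalIdeal (C ⧸ Ideal.span {t}) :=
    IsLocalRing.map_maximalIdeal_of_surjective _ Ideal.Quotient.mk_surjective
  have h1 := H72.DepthFinite.idealDepth_eq_idealDepth_map (A := C) (B := C ⧸ Ideal.span {t})
    (IsLocalRing.maximalIdeal C) (C ⧸ Ideal.span {t})
  rw [hmap] at h1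
  have e : QuotSMulTop t C ≃ₗ[C] (C ⧸ Ideal.span {t}) :=
    Submodule.quotEquivOfEq _ _ (by
      rw [← Submodule.ideal_span_singleton_smul, smul_eq_mul, Ideal.mul_top])
  rw [← h1, ← H15.idealDepth_congr e, ← ENat.forall_natCast_le_iff_le]
  intro n hn
  cases n with
  | zero => simp
  | succ m =>
    have hm : (m : ℕ∞) ≤ LocCoh.idealDepth (IsLocalRing.maximalIdeal C) (QuotSMulTop t C) := by
      rw [Nat.cast_succ] at hn
      exact (ENat.add_le_add_iff_right (by simp : (1 : ℕ∞) ≠ ⊤)).mp hn
    exact H72.DepthFinite.succ_le_idealDepth_of_quotSMulTop _ C t ht hreg m hm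

/-- The depth of a Noetherian local ring is invariant under ring isomorphism. -/
theorem idealDepth_maximalIdeal_le_of_ringEquiv {R S : Type u} [CommRing R] [CommRing S]
    [IsLocalRing R] [IsLocalRing S] [IsNoetherianRing R] (e : R ≃+* S) :
    LocCoh.idealDepth (IsLocalRing.maximalIdeal R) R =
      LocCoh.idealDepth (IsLocalRing.maximalIdeal S) S := by
  letI : Algebra R S := e.toRingHom.toAlgebra
  haveI : Module.Finite R S := Module.Finite.of_surjective (Algebra.linearMap R S) e.surjective
  have hmap : (IsLocalRing.maximalIdeal R).map (algebraMap R S) = IsLocalRing.maximalIdeal S :=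
    IsLocalRing.map_maximalIdeal_of_surjective _ e.surjective
  have h1 := H72.DepthFinite.idealDepth_eq_idealDepth_map (A := R) (B := S)
    (IsLocalRing.maximalIdeal R) S
  rw [hmap] at h1
  let e' : R ≃ₗ[R] S :=
    { e with
      map_smul' := fun r x => by
        simp only [smul_eq_mul, RingHom.id_apply, Algebra.smul_def]
        exact map_mul e r x }
  rw [← h1, ← H15.idealDepth_congr e']

/-- For a prime `q` containing the regular element `t`, the depth of the local ring of `A/tA`
at `q/t` is at most the depth of `A_q` minus one. -/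
theorem idealDepth_localization_quotient_add_one_le {A : Type u} [CommRing A] [IsNoetherianRing A]
    (t : A) (hreg : t ∈ nonZeroDivisors A) (q : Ideal A) [q.IsPrime] (htq : t ∈ q)
    (Q : Ideal (A ⧸ Ideal.span {t})) [Q.IsPrime]
    (hQ : Q.comap (Ideal.Quotient.mk (Ideal.span {t})) = q) :
    LocCoh.idealDepth (IsLocalRing.maximalIdeal (Localization.AtPrime Q)) (Localization.AtPrime Q)
      + 1 ≤
    LocCoh.idealDepth (IsLocalRing.maximalIdeal (Localization.AtPrime q))
      (Localization.AtPrime q) := by
  have hmapspan : (Ideal.span {t}).map (algebraMap A (Localization.AtPrime q)) =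
      Ideal.span {algebraMap A (Localization.AtPrime q) t} := by
    rw [Ideal.map_span, Set.image_singleton]
  have ht' : algebraMap A (Localization.AtPrime q) t ∈
      IsLocalRing.maximalIdeal (Localization.AtPrime q) := by
    rw [← Localization.AtPrime.map_eq_maximalIdeal]
    exact Ideal.mem_map_of_mem _ htq
  have hreg' : IsSMulRegular (Localization.AtPrime q) (algebraMap A (Localization.AtPrime q) t) := by
    have h1 : algebraMap A (Localization.AtPrime q) t ∈ nonZeroDivisors (Localization.AtPrime q) :=
      IsLocalization.map_nonZeroDivisors_le q.primeCompl (Localization.AtPrime q)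
        (Submonoid.mem_map_of_mem _ hreg)
    rw [isSMulRegular_iff_right_eq_zero_of_smul]
    intro x hx
    refine (mem_nonZeroDivisors_iff_right.mp h1) x ?_
    rw [mul_comm]
    exact hx
  haveI : Nontrivial (Localization.AtPrime q ⧸
      Ideal.span {algebraMap A (Localization.AtPrime q) t}) := by
    rw [Ideal.Quotient.nontrivial_iff]
    intro h
    have : (1 : Localization.AtPrime q) ∈ IsLocalRing.maximalIdeal (Localization.AtPrime q) := by
      have h1 : Ideal.span {algebraMap A (Localization.AtPrime q) t} ≤
          IsLocalRing.maximalIdeal (Localization.AtPrime q) := by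
        rw [Ideal.span_le, Set.singleton_subset_iff]
        exact ht'
      exact h1 (h ▸ Submodule.mem_top)
    exact (Ideal.ne_top_iff_one _).mp Ideal.IsPrime.ne_top' this
  haveI : IsLocalRing (Localization.AtPrime q ⧸
      Ideal.span {algebraMap A (Localization.AtPrime q) t}) :=
    IsLocalRing.of_surjective' (Ideal.Quotient.mk _) Ideal.Quotient.mk_surjective
  have key := idealDepth_quotient_add_one_le (Localization.AtPrime q)
    (algebraMap A (Localization.AtPrime q) t) ht' hreg'
  refine le_trans (le_of_eq ?_) key
  congr 1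
  -- the local ring of `A/t` at `Q` is `A_q / t A_q`
  haveI : Q.LiesOver q := ⟨hQ.symm⟩
  have hsub : Algebra.algebraMapSubmonoid (A ⧸ Ideal.span {t}) q.primeCompl = Q.primeCompl :=
    Ideal.algebraMapSubmonoid_primeCompl_of_liesOver_surjective Q q Ideal.Quotient.mk_surjective
  haveI hloc : IsLocalization (Algebra.algebraMapSubmonoid (A ⧸ Ideal.span {t}) q.primeCompl)
      (Localization.AtPrime q ⧸ (Ideal.span {t}).map (algebraMap A (Localization.AtPrime q))) :=
    inferInstance
  rw [hsub] at hloc
  let e : Localization.AtPrime Q ≃+*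
      (Localization.AtPrime q ⧸ (Ideal.span {t}).map (algebraMap A (Localization.AtPrime q))) :=
    (IsLocalization.algEquiv Q.primeCompl (Localization.AtPrime Q) _).toRingEquiv
  exact idealDepth_maximalIdeal_le_of_ringEquiv (e.trans (Ideal.quotEquivOfEq hmapspan))

theorem min_add_one_le (k x : ℕ∞) : min k (x + 1) ≤ min k x + 1 := by
  rcases le_total k x with h | h
  · rw [min_eq_left h, min_eq_left (h.trans le_self_add)]
    exact le_self_add
  · rw [min_eq_right h]
    exact min_le_right _ _

/-- S2659: if `A/tA` satisfies `(S_k)` for a regular element `t` of the maximal ideal of the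
Noetherian local ring `A`, then so does `A`. -/
theorem hasSk_of_hasSk_quotient_regular (k : ℕ) (A : Type u) [CommRing A]
    [IsNoetherianRing A] [IsLocalRing A] (t : A) (ht : t ∈ IsLocalRing.maximalIdeal A)
    (hreg : t ∈ nonZeroDivisors A)
    (hS : LocCoh.HasSk k (A ⧸ Ideal.span {t}) (A ⧸ Ideal.span {t})) : LocCoh.HasSk k A A := by
  rw [ZClos.hasSk_iff k (support_self_eq_univ A)]
  rw [ZClos.hasSk_iff k (support_self_eq_univ _)] at hS
  -- the key facts at primes containing `t`
  have key : ∀ (q : Ideal A) [q.IsPrime], t ∈ q → ∃ x y : ℕ∞, min (k : ℕ∞) x ≤ y ∧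
      y + 1 ≤ LocCoh.idealDepth (IsLocalRing.maximalIdeal (Localization.AtPrime q))
        (Localization.AtPrime q) ∧ q.height ≤ x + 1 := by
    intro q hq htq
    have hker : RingHom.ker (Ideal.Quotient.mk (Ideal.span {t})) ≤ q := by
      rw [Ideal.mk_ker, Ideal.span_le, Set.singleton_subset_iff]
      exact htq
    haveI hQ : (q.map (Ideal.Quotient.mk (Ideal.span {t}))).IsPrime :=
      Ideal.map_isPrime_of_surjective Ideal.Quotient.mk_surjective hker
    have hcomap : (q.map (Ideal.Quotient.mk (Ideal.span {t}))).comap
        (Ideal.Quotient.mk (Ideal.span {t})) = q := by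
      rw [Ideal.comap_map_of_surjective _ Ideal.Quotient.mk_surjective, ← RingHom.ker_eq_comap_bot]
      exact sup_eq_left.mpr hker
    refine ⟨(q.map (Ideal.Quotient.mk (Ideal.span {t}))).height, _, ?_,
      idealDepth_localization_quotient_add_one_le t hreg q htq _ hcomap,
      Ideal.height_le_height_add_one_of_mem htq⟩
    have := hS (q.map (Ideal.Quotient.mk (Ideal.span {t})))
    rwa [depth_localizedModule_self] at this
  intro p hp
  rw [depth_localizedModule_self]
  by_cases htp : t ∈ p
  · obtain ⟨x, y, h1, h2, h3⟩ := key p htp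
    calc min (k : ℕ∞) p.height ≤ min (k : ℕ∞) (x + 1) := min_le_min le_rfl h3
      _ ≤ min (k : ℕ∞) x + 1 := min_add_one_le _ _
      _ ≤ y + 1 := by gcongr
      _ ≤ _ := h2
  · by_cases hd : (k : ℕ∞) ≤ LocCoh.idealDepth (IsLocalRing.maximalIdeal (Localization.AtPrime p))
        (Localization.AtPrime p)
    · exact le_trans (min_le_left _ _) hd
    · rw [not_le] at hd
      obtain ⟨d, hdeq⟩ := ENat.ne_top_iff_exists.mp (ne_top_of_lt hd)
      rw [← hdeq] at hd ⊢
      have hdk : d < k := by exact_mod_cast hd
      have hne : p ⊔ Ideal.span {t} ≠ ⊤ := by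
        intro h
        have hle : p ⊔ Ideal.span {t} ≤ IsLocalRing.maximalIdeal A := by
          rw [sup_le_iff, Ideal.span_le, Set.singleton_subset_iff]
          exact ⟨IsLocalRing.le_maximalIdeal hp.ne_top, ht⟩
        rw [h, top_le_iff] at hle
        exact Ideal.IsPrime.ne_top' hle
      obtain ⟨⟨q, hqmin⟩⟩ := Ideal.nonempty_minimalPrimes hne
      haveI hq : q.IsPrime := hqmin.1.1
      have hpq : p ≤ q := le_sup_left.trans hqmin.1.2
      have htq : t ∈ q := hqmin.1.2 (Ideal.mem_sup_right (Ideal.mem_span_singleton_self t))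
      have hht1 : (q.map (Ideal.Quotient.mk p)).height ≤ 1 :=
        Ideal.map_height_le_one_of_mem_minimalPrimes hqmin
      have hdq := H72.DepthLocIneq.depth_localization_le A p q hpq
      rw [depth_localizedModule_self, depth_localizedModule_self, ← hdeq] at hdq
      have hdq' : LocCoh.idealDepth (IsLocalRing.maximalIdeal (Localization.AtPrime q))
          (Localization.AtPrime q) ≤ (d : ℕ∞) + 1 := hdq.trans (by gcongr)
      obtain ⟨x, y, h1, h2, h3⟩ := key q htq
      have hy : y ≤ d :=
        (ENat.add_le_add_iff_right (by simp : (1 : ℕ∞) ≠ ⊤)).mp (h2.trans hdq')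
      have hx : x ≤ d := by
        rcases le_total (k : ℕ∞) x with hkx | hkx
        · rw [min_eq_left hkx] at h1
          exact absurd (h1.trans hy) (not_le.mpr hd)
        · rw [min_eq_right hkx] at h1
          exact h1.trans hy
      have hlt : p < q := lt_of_le_of_ne hpq (fun h => htp (h ▸ htq))
      have h4 : p.height + 1 ≤ q.height := Ideal.height_add_one_le_of_lt_of_isPrime hlt
      have h5 : p.height + 1 ≤ (d : ℕ∞) + 1 := h4.trans (h3.trans (by gcongr))
      have h6 : p.height ≤ d := (ENat.add_le_add_iff_right (by simp : (1 : ℕ∞) ≠ ⊤)).mp h5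
      exact le_trans (min_le_right _ _) h6

end Groth.Agent.H14
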