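import Groth.Agent.H14.D15.DepthLoc
import Mathlib.RingTheory.KrullDimension.Regular
import Mathlib.RingTheory.Regular.Flat
import Mathlib.RingTheory.Localization.Module

set_option autoImplicit false
set_option linter.style.haveILetI false
universe u

namespace Groth.Agent.H14

open RingTheory.Sequence IsLocalRing Groth.Agent.H14.D15

variable {A : Type u} [CommRing A]

/-- `(S_k)` is invariant under linear equivalences. -/
theorem hasSk_of_equiv (k : ℕ) {M M' : Type u} [AddCommGroup M] [Module A M] [AddCommGroup M']
    [Module A M'] (e : M ≃ₗ[A] M') (h : LocCoh.HasSk k A M) : LocCoh.HasSk k A M' := by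
  intro p hp
  let ep : LocalizedModule p.primeCompl M ≃ₗ[Localization.AtPrime p] LocalizedModule p.primeCompl M' :=
    IsLocalizedModule.mapEquiv p.primeCompl (LocalizedModule.mkLinearMap p.primeCompl M)
      (LocalizedModule.mkLinearMap p.primeCompl M') (Localization.AtPrime p) e
  have h1 := h p
  rw [Module.supportDim_eq_of_equiv ep] at h1
  unfold LocCoh.depth at h1 ⊢
  rw [idealDepth_congr ep] at h1
  exact h1

/-- The quotient of the localization by `f/1` is the localization of the quotient. -/
noncomputable def quotSMulTopLocEquiv (M : Type u) [AddCommGroup M] [Module A M] (p : Ideal A)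
    [p.IsPrime] (x : A) :
    QuotSMulTop (algebraMap A (Localization.AtPrime p) x) (LocalizedModule p.primeCompl M)
      ≃ₗ[Localization.AtPrime p] LocalizedModule p.primeCompl (QuotSMulTop x M) :=
  have hf : IsBaseChange (Localization.AtPrime p) (LocalizedModule.mkLinearMap p.primeCompl M) :=
    IsLocalizedModule.isBaseChange p.primeCompl (Localization.AtPrime p) _
  have hf' : IsBaseChange (Localization.AtPrime p)
      (LocalizedModule.mkLinearMap p.primeCompl (QuotSMulTop x M)) :=
    IsLocalizedModule.isBaseChange p.primeCompl (Localization.AtPrime p) _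
  ((QuotSMulTop.algebraMapTensorEquivTensorQuotSMulTop x M (Localization.AtPrime p)).symm ≪≫ₗ
      QuotSMulTop.congr (algebraMap A (Localization.AtPrime p) x) hf.equiv).symm ≪≫ₗ hf'.equiv

theorem hasSk_quotSMulTop [IsNoetherianRing A] (k : ℕ) (hk : 1 ≤ k) (M : Type u) [AddCommGroup M]
    [Module A M] [Module.Finite A M] (h : LocCoh.HasSk k A M) (f : A) (hf : IsSMulRegular M f) :
    LocCoh.HasSk (k - 1) A (QuotSMulTop f M) := by
  intro p hp
  by_cases htriv : maximalIdeal (Localization.AtPrime p) •
      (⊤ : Submodule (Localization.AtPrime p) (LocalizedModule p.primeCompl (QuotSMulTop f M))) = ⊤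
  · -- depth is ⊤
    have : LocCoh.depth (Localization.AtPrime p) (LocalizedModule p.primeCompl (QuotSMulTop f M)) = ⊤ := by
      unfold LocCoh.depth LocCoh.idealDepth
      rw [if_pos htriv]
    rw [this]
    exact le_top
  -- nontrivial case
  have hfp : f ∈ p := by
    by_contra hfp
    apply htriv
    -- f is a unit in the localization, so the quotient is trivial
    have hu : IsUnit (algebraMap A (Localization.AtPrime p) f) :=
      IsLocalization.map_units (Localization.AtPrime p) (⟨f, hfp⟩ : p.primeCompl)
    have hsub : Subsingleton (QuotSMulTop (algebraMap A (Localization.AtPrime p) f)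
        (LocalizedModule p.primeCompl M)) := by
      rw [Submodule.Quotient.subsingleton_iff, eq_top_iff]
      intro m _
      obtain ⟨u, hu'⟩ := hu
      refine ⟨(↑u⁻¹ : Localization.AtPrime p) • m, trivial, ?_⟩
      show algebraMap A (Localization.AtPrime p) f • (↑u⁻¹ : Localization.AtPrime p) • m = m
      rw [← hu', smul_smul, Units.mul_inv, one_smul]
    have hsub' : Subsingleton (LocalizedModule p.primeCompl (QuotSMulTop f M)) :=
      (quotSMulTopLocEquiv M p f).symm.toEquiv.subsingleton
    exact Subsingleton.elim _ _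
  have hreg : IsSMulRegular (LocalizedModule p.primeCompl M) (algebraMap A (Localization.AtPrime p) f) := by
    have h1 : IsWeaklyRegular M [f] := (isWeaklyRegular_singleton_iff M f).mpr hf
    have h2 := h1.of_isLocalizedModule (Localization.AtPrime p) p.primeCompl
      (LocalizedModule.mkLinearMap p.primeCompl M)
    simpa using h2
  have hmem : algebraMap A (Localization.AtPrime p) f ∈ maximalIdeal (Localization.AtPrime p) :=
    (IsLocalization.AtPrime.to_map_mem_maximal_iff (Localization.AtPrime p) p f).mpr hfp
  have hdim := Module.supportDim_quotSMulTop_succ_eq_supportDim hreg hmem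
  rw [Module.supportDim_eq_of_equiv (quotSMulTopLocEquiv M p f)] at hdim
  have hSk := h p
  rw [← hdim] at hSk
  -- arithmetic
  set d' := Module.supportDim (Localization.AtPrime p)
    (LocalizedModule p.primeCompl (QuotSMulTop f M)) with hd'
  set D := LocCoh.depth (Localization.AtPrime p) (LocalizedModule p.primeCompl M) with hD
  set D' := LocCoh.depth (Localization.AtPrime p)
    (LocalizedModule p.primeCompl (QuotSMulTop f M)) with hD'
  -- hSk : min k (d' + 1) ≤ D ; goal : min (k - 1) d' ≤ D'
  by_cases hbot : d' = ⊥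
  · rw [hbot, min_eq_right bot_le]
    exact bot_le
  · obtain ⟨d'', hd''⟩ := WithBot.ne_bot_iff_exists.mp hbot
    rw [← hd''] at hSk ⊢
    have hmin : min (((k - 1 : ℕ) : ℕ∞)) d'' ≤ D' := by
      have hfin : min (((k - 1 : ℕ) : ℕ∞)) d'' ≠ ⊤ :=
        ne_top_of_le_ne_top (ENat.natCast_ne_top _) (min_le_left _ _)
      obtain ⟨r₀, hr₀⟩ := ENat.ne_top_iff_exists.mp hfin
      rw [← hr₀]
      apply le_depth_localization_quotSMulTop M p f hfp hf r₀
      -- (r₀ + 1) ≤ D
      have h1 : ((r₀ + 1 : ℕ) : ℕ∞) = min (k : ℕ∞) (d'' + 1) := by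
        push_cast
        rw [hr₀, ← min_add_add_right]
        congr 1
        have : ((k - 1 : ℕ) : ℕ∞) + 1 = ((k - 1 + 1 : ℕ) : ℕ∞) := by push_cast; rfl
        rw [this, Nat.sub_add_cancel hk]
      rw [h1]
      have h2 : ((min (k : ℕ∞) (d'' + 1) : ℕ∞) : WithBot ℕ∞) ≤ (D : WithBot ℕ∞) := by
        rw [WithBot.coe_min]
        exact hSk
      exact WithBot.coe_le_coe.mp h2
    have : (((k - 1 : ℕ) : ℕ∞) : WithBot ℕ∞) = ((k - 1 : ℕ) : WithBot ℕ∞) := rfl
    rw [← this, ← WithBot.coe_min]
    exact WithBot.coe_le_coe.mpr hmin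

theorem hasSk_sub_of_regular_sequence [IsNoetherianRing A] (rs : List A) :
    ∀ (k : ℕ) (M : Type u) [AddCommGroup M] [Module A M] [Module.Finite A M],
      LocCoh.HasSk k A M → IsWeaklyRegular M rs → rs.length ≤ k →
      LocCoh.HasSk (k - rs.length) A (M ⧸ (Ideal.ofList rs • (⊤ : Submodule A M))) := by
  induction rs with
  | nil =>
    intro k M _ _ _ hM _ _
    have hbot : (Ideal.ofList ([] : List A) • (⊤ : Submodule A M)) = ⊥ := by simp
    rw [List.length_nil, Nat.sub_zero]
    exact hasSk_of_equiv k (Submodule.quotEquivOfEqBot _ hbot).symm hM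
  | cons r rs ih =>
    intro k M _ _ _ hM hreg hlen
    rw [isWeaklyRegular_cons_iff] at hreg
    rw [List.length_cons] at hlen ⊢
    have hk : 1 ≤ k := by omega
    have h1 := hasSk_quotSMulTop k hk M hM r hreg.1
    have h2 := ih (k - 1) (QuotSMulTop r M) h1 hreg.2 (by omega)
    have e := Submodule.quotOfListConsSMulTopEquivQuotSMulTopInner M r rs
    have : k - (rs.length + 1) = k - 1 - rs.length := by omega
    rw [this]
    exact hasSk_of_equiv _ e.symm h2

end Groth.Agent.H14
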